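import Cfsg.Agent.Lib.Solv.AltSec.Seven.DataOps

/-!
Certificate data for the alternating group of degree twelve.
-/

set_option autoImplicit false

namespace Cfsg.Agent.Solv.AltSec.Seven

/-- An element of the group ring. -/
def e3qW : List (List (ℕ × ℕ) × ℤ) := [
  ([], 18), ([(7, 8), (9, 10)], -6), ([(7, 9), (8, 10)], -6), ([(7, 10), (8, 9)], -6),
  ([(6, 7), (9, 10)], -6), ([(6, 7), (8, 9)], -6), ([(6, 7), (8, 10)], -6),
  ([(6, 7), (7, 8), (8, 9), (9, 10)], 3), ([(6, 7), (7, 8), (8, 10), (9, 10)], 3),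
  ([(6, 7), (7, 9), (8, 9), (9, 10)], 3), ([(6, 7), (7, 9), (8, 10), (9, 10)], 3),
  ([(6, 7), (7, 10), (8, 10), (9, 10)], 3), ([(6, 7), (7, 10), (8, 9), (9, 10)], 3),
  ([(6, 8), (7, 8), (8, 9), (9, 10)], 3), ([(6, 8), (7, 8), (8, 10), (9, 10)], 3),
  ([(6, 8), (9, 10)], -6), ([(6, 8), (7, 9)], -6), ([(6, 8), (7, 9), (8, 9), (9, 10)], 3),
  ([(6, 8), (7, 9), (8, 10), (9, 10)], 3), ([(6, 8), (7, 10)], -6),
  ([(6, 8), (7, 10), (8, 10), (9, 10)], 3), ([(6, 8), (7, 10), (8, 9), (9, 10)], 3),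
  ([(6, 9), (7, 9), (8, 9), (9, 10)], 3), ([(6, 9), (7, 9), (8, 10), (9, 10)], 3),
  ([(6, 9), (8, 10)], -6), ([(6, 9), (7, 8), (8, 9), (9, 10)], 3), ([(6, 9), (7, 8)], -6),
  ([(6, 9), (7, 8), (8, 10), (9, 10)], 3), ([(6, 9), (7, 10), (8, 9), (9, 10)], 3),
  ([(6, 9), (7, 10), (8, 10), (9, 10)], 3), ([(6, 9), (7, 10)], -6),
  ([(6, 10), (7, 10), (8, 10), (9, 10)], 3), ([(6, 10), (7, 10), (8, 9), (9, 10)], 3),
  ([(6, 10), (8, 9)], -6), ([(6, 10), (7, 8), (8, 10), (9, 10)], 3), ([(6, 10), (7, 8)], -6),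
  ([(6, 10), (7, 8), (8, 9), (9, 10)], 3), ([(6, 10), (7, 9), (8, 10), (9, 10)], 3),
  ([(6, 10), (7, 9), (8, 9), (9, 10)], 3), ([(6, 10), (7, 9)], -6)]

/-- An element of the group ring. -/
def e3q : List (ℕ × ℤ) := ofWords 12 e3qW

theorem e3q_evn : Evns 12 e3q := evns_ofWords (by norm_num) (by decide +kernel)

/-- The data of the space. -/
def e3xSpec : Spec where
  n := 12
  N := 60
  T := 0xba9876534012ba9876503412ba9876540312ba9876534201ba9876534120ba9876503124ba9876540123ba9876523401ba9876542301ba9876541320ba9876503241ba9876540231ba9876523140ba9876523014ba9876513420ba9876542013ba9876512340ba9876541203ba9876531240ba9876501234ba9876530214ba9876513204ba9876513042ba9876542130ba9876512034ba9876512403ba9876541032ba9876532410ba9876502314ba9876531402ba9876501342ba9876530142ba9876520134ba9876524103ba9876532104ba9876502143ba9876532041ba9876502431ba9876531024ba9876501423ba9876530421ba9876521304ba9876520341ba9876524031ba9876510324ba9876514023ba9876521043ba9876521430ba9876520413ba9876524310ba9876510243ba9876514230ba9876504213ba9876510432ba9876514302ba9876504132ba9876543102ba9876504321ba9876543021ba9876543210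
  K := [
  (205163983024656, 1)]

/-- Generators of the subgroup. -/
def e3xGens : List (List (ℕ × ℕ) × ℤ) := [
]

/-- The enumeration of the subgroup. -/
def e3xSteps : List (ℕ × ℕ) := [
]

/-- Words for the representatives. -/
def e3xWords : List (List (ℕ × ℕ)) := [
  [], [(0, 1), (1, 2)], [(0, 1), (1, 2), (2, 3), (3, 4)], [(0, 2), (1, 2)],
  [(0, 2), (1, 3), (2, 3), (3, 4)], [(0, 2), (1, 2), (2, 3), (3, 4)],
  [(0, 2), (1, 3), (2, 4), (3, 4)], [(0, 3), (3, 4)], [(1, 3), (3, 4)], [(0, 3), (1, 4)],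
  [(2, 3), (3, 4)], [(0, 3), (2, 4)], [(1, 3), (2, 4)], [(0, 3), (1, 4), (2, 3), (3, 4)],
  [(0, 3), (1, 2), (2, 3), (3, 4)], [(0, 4), (1, 2), (2, 3), (3, 4)],
  [(0, 1), (1, 3), (2, 3), (3, 4)], [(0, 1), (1, 4), (2, 3), (3, 4)],
  [(0, 4), (1, 4), (2, 3), (3, 4)], [(0, 1), (1, 2), (2, 4), (3, 4)],
  [(0, 3), (1, 2), (2, 4), (3, 4)], [(0, 4), (1, 2), (2, 4), (3, 4)],
  [(0, 1), (1, 3), (2, 4), (3, 4)], [(0, 1), (1, 4), (2, 4), (3, 4)],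
  [(0, 3), (1, 4), (2, 4), (3, 4)], [(0, 4), (1, 4), (2, 4), (3, 4)],
  [(0, 3), (1, 3), (2, 3), (3, 4)], [(0, 4), (1, 3), (2, 3), (3, 4)],
  [(0, 2), (1, 4), (2, 4), (3, 4)], [(0, 2), (1, 4), (2, 3), (3, 4)],
  [(0, 2), (1, 2), (2, 4), (3, 4)], [(0, 4), (2, 3)], [(2, 4), (3, 4)], [(0, 2), (1, 3)],
  [(0, 3), (1, 3), (2, 4), (3, 4)], [(0, 4), (1, 3), (2, 4), (3, 4)], [(1, 3), (2, 3)],
  [(0, 2), (1, 4)], [(0, 4), (1, 4)], [(0, 4), (3, 4)], [(0, 4), (1, 3)], [(1, 4), (3, 4)],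
  [(0, 3), (1, 3)], [(1, 4), (2, 3)], [(0, 3), (2, 3)], [(1, 2), (2, 4)], [(0, 4), (2, 4)],
  [(1, 4), (2, 4)], [(0, 1), (1, 3)], [(0, 1), (1, 4)], [(1, 2), (2, 3)], [(0, 1), (2, 3)],
  [(0, 1), (2, 4)], [(0, 3), (1, 2)], [(0, 4), (1, 2)], [(1, 2), (3, 4)], [(0, 1), (3, 4)],
  [(0, 2), (2, 3)], [(0, 2), (2, 4)], [(0, 2), (3, 4)]]

theorem e3x_K : e3xSpec.K = closeK 12 e3xGens e3xSteps [(idCode 12, 1)] := by decide +kernel

theorem e3x_tbl : e3xSpec.tblOK e3xWords = true := by decide +kernel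

theorem e3x_gens : e3xGens.all (fun g => wordOK 12 g.1) = true := by decide +kernel

/-- Seed relations. -/
def e3xSeeds : List (List (ℕ × ℤ)) := [
  [(0, 1), (2, 1), (6, 1), (13, 1), (25, 1), (40, -1), (43, -1), (52, -1), (53, -1), (59, -1)],
  [(1, 1), (4, 1), (9, 1), (18, 1), (20, -1), (32, 1), (35, -1), (47, -1), (56, -1), (57, -1)],
  [(3, 1), (7, 1), (12, 1), (15, 1), (23, 1), (29, -1), (34, -1), (46, -1), (48, -1), (55, -1)],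
  [(5, 1), (11, 1), (16, -1), (21, 1), (28, -1), (31, -1), (36, 1), (42, -1), (45, -1), (49, 1)],
  [(10, 1), (14, -1), (19, 1), (24, 1), (27, -1), (33, 1), (38, 1), (41, -1), (51, -1), (58, -1)],
  [(0, -42), (2, 3), (4, 3), (5, 3), (6, 3), (9, -6), (11, -6), (12, -6), (13, 3), (14, 3), (15, 3), (16, 3), (17, 3), (18, 3), (19, 3), (20, 3), (21, 3), (22, 3), (23, 3), (24, 3), (25, 3), (26, 3), (27, 3), (28, 3), (29, 3), (30, 3), (31, -6), (33, -6), (34, 3), (35, 3), (37, -6), (40, -6), (43, -6), (51, -6), (52, -6), (53, -6), (54, -6), (55, -6), (56, -6), (59, -6)]]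

/-- Eigenvector data. -/
def e3xEig0 : List (List (ℕ × ℕ) × List (ℕ × ℕ) × ℤ) := [
  ([(0, 1), (1, 2), (2, 3), (3, 4)], [(2, 0), (6, 0), (13, 0), (25, 0), (0, 0), (43, 0), (52, 0), (59, 0), (40, 0), (53, 0)], 1),
  ([(1, 4), (2, 3)], [(43, 0), (40, 0), (53, 0), (59, 0), (52, 0), (2, 0), (0, 0), (25, 0), (6, 0), (13, 0)], -1)]

/-- Eigenvector data. -/
def e3xEig1 : List (List (ℕ × ℕ) × List (ℕ × ℕ) × ℤ) := [
  ([(0, 1), (1, 2), (2, 3), (3, 4)], [(4, 0), (9, 0), (18, 0), (32, 0), (35, 0), (1, 0), (47, 0), (56, 0), (57, 0), (20, 0)], 1),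
  ([(1, 4), (2, 3)], [(35, 0), (20, 0), (57, 0), (56, 0), (4, 0), (47, 0), (1, 0), (32, 0), (18, 0), (9, 0)], -1)]

/-- Eigenvector data. -/
def e3xEig2 : List (List (ℕ × ℕ) × List (ℕ × ℕ) × ℤ) := [
  ([(0, 1), (1, 2), (2, 3), (3, 4)], [(7, 0), (15, 0), (23, 0), (12, 0), (3, 0), (34, 0), (46, 0), (55, 0), (29, 0), (48, 0)], 1),
  ([(1, 4), (2, 3)], [(34, 0), (29, 0), (55, 0), (48, 0), (46, 0), (7, 0), (3, 0), (23, 0), (15, 0), (12, 0)], -1)]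

/-- Eigenvector data. -/
def e3xEig3 : List (List (ℕ × ℕ) × List (ℕ × ℕ) × ℤ) := [
  ([(0, 1), (1, 2), (2, 3), (3, 4)], [(11, 0), (21, 0), (28, 0), (36, 0), (42, 0), (45, 0), (49, 0), (31, 0), (16, 0), (5, 0)], 1),
  ([(1, 4), (2, 3)], [(42, 0), (28, 0), (21, 0), (16, 0), (11, 0), (49, 0), (45, 0), (5, 0), (36, 0), (31, 0)], -1)]

/-- Eigenvector data. -/
def e3xEig4 : List (List (ℕ × ℕ) × List (ℕ × ℕ) × ℤ) := [
  ([(0, 1), (1, 2), (2, 3), (3, 4)], [(19, 0), (27, 0), (33, 0), (38, 0), (41, 0), (24, 0), (10, 0), (51, 0), (58, 0), (14, 0)], 1),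
  ([(1, 4), (2, 3)], [(41, 0), (33, 0), (27, 0), (58, 0), (19, 0), (14, 0), (51, 0), (10, 0), (38, 0), (24, 0)], -1)]

/-- Images. -/
def e3xJs5 : List (ℕ × ℕ) := [
  (0, 0), (55, 0), (12, 0), (43, 0), (56, 0), (51, 0), (52, 0), (2, 0), (19, 0), (16, 0),
  (22, 0), (23, 0), (17, 0), (5, 0), (30, 0), (59, 0), (33, 0), (4, 0), (6, 0), (37, 0),
  (28, 0), (29, 0), (26, 0), (34, 0), (11, 0), (14, 0), (53, 0), (20, 0), (13, 0), (24, 0),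
  (9, 0), (25, 0), (18, 0), (31, 0), (21, 0), (54, 0), (15, 0), (35, 0), (27, 0), (40, 0)]

theorem e3x_op5 :
    opImgOK e3xSpec 0 e3 e3xJs5 = true ∧
      eqCoef e3xSpec.N 0 (e3xSeeds.getD 5 []) (opRel e3xSpec 0 e3 e3xJs5 60) = true := by decide +kernel

/-- A part of a certificate. -/
def e3xCert0 : List Inst := [
  ⟨[(0, 2), (1, 2)], 1, 6, [(0, 0), (16, 0), (24, 0), (15, 0), (11, 0), (30, 0), (40, 0), (37, 0), (55, 0), (51, 0)]⟩,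
  ⟨[(0, 4), (1, 2), (2, 3), (3, 4)], 4, 3, [(21, 0), (12, 0), (4, 0), (0, 0), (56, 0), (34, 0), (17, 0), (31, 0), (37, 0), (53, 0)]⟩,
  ⟨[(0, 1), (1, 2)], 3, 3, [(10, 0), (20, 0), (4, 0), (25, 0), (41, 0), (15, 0), (48, 0), (44, 0), (52, 0), (37, 0)]⟩,
  ⟨[(0, 4), (1, 3)], 4, 3, [(27, 0), (19, 0), (14, 0), (51, 0), (10, 0), (58, 0), (41, 0), (38, 0), (24, 0), (33, 0)]⟩,
  ⟨[(0, 1), (1, 2)], 2, 3, [(0, 0), (14, 0), (22, 0), (18, 0), (28, 0), (43, 0), (11, 0), (54, 0), (33, 0), (56, 0)]⟩,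
  ⟨[(0, 4), (1, 2), (2, 3), (3, 4)], 2, -3, [(9, 0), (50, 0), (25, 0), (16, 0), (58, 0), (44, 0), (47, 0), (19, 0), (5, 0), (40, 0)]⟩,
  ⟨[(0, 3), (1, 2), (2, 3), (3, 4)], 3, -3, [(12, 0), (54, 0), (29, 0), (51, 0), (0, 0), (19, 0), (9, 0), (35, 0), (26, 0), (59, 0)]⟩,
  ⟨[(0, 3), (1, 2), (2, 3), (3, 4)], 0, -3, [(14, 0), (30, 0), (47, 0), (31, 0), (48, 0), (23, 0), (11, 0), (4, 0), (38, 0), (50, 0)]⟩,
  ⟨[(0, 4), (1, 3)], 0, -3, [(40, 0), (53, 0), (59, 0), (52, 0), (43, 0), (0, 0), (25, 0), (13, 0), (2, 0), (6, 0)]⟩,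
  ⟨[], 5, -1, [(0, 0), (2, 0), (4, 0), (5, 0), (6, 0), (9, 0), (11, 0), (12, 0), (13, 0), (14, 0), (15, 0), (16, 0), (17, 0), (18, 0), (19, 0), (20, 0), (21, 0), (22, 0), (23, 0), (24, 0), (25, 0), (26, 0), (27, 0), (28, 0), (29, 0), (30, 0), (31, 0), (33, 0), (34, 0), (35, 0), (37, 0), (40, 0), (43, 0), (51, 0), (52, 0), (53, 0), (54, 0), (55, 0), (56, 0), (59, 0)]⟩]

/-- A certificate. -/
def e3xCert : List Inst := e3xCert0

theorem e3x_final : finalOK e3xSpec 0 e3xSeeds e3xCert 60 = true := by decide +kernel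

/-- Words for the representatives. -/
def e3xGroupWords : List (List ℕ) := [
  [], [0], [1], [0, 0], [1, 0], [0, 1], [1, 1], [1, 0, 0], [0, 1, 0], [1, 1, 0], [0, 0, 1],
  [1, 0, 1], [0, 1, 1], [1, 1, 1], [0, 1, 0, 0], [1, 1, 0, 0], [0, 0, 1, 0], [1, 0, 1, 0],
  [1, 1, 1, 0], [1, 0, 0, 1], [0, 1, 0, 1], [1, 1, 0, 1], [0, 0, 1, 1], [1, 0, 1, 1],
  [0, 1, 1, 1], [1, 1, 1, 1], [0, 0, 1, 0, 0], [1, 0, 1, 0, 0], [1, 0, 0, 1, 0],
  [0, 1, 0, 1, 0], [1, 1, 0, 1, 0], [0, 1, 1, 1, 0], [1, 1, 1, 1, 0], [1, 1, 0, 0, 1],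
  [0, 0, 1, 0, 1], [1, 0, 1, 0, 1], [1, 1, 1, 0, 1], [1, 0, 0, 1, 1], [1, 0, 1, 1, 1],
  [0, 1, 1, 1, 1], [0, 1, 0, 1, 0, 0], [1, 1, 0, 1, 0, 0], [1, 1, 0, 0, 1, 0],
  [0, 0, 1, 0, 1, 0], [1, 1, 1, 0, 1, 0], [1, 0, 1, 1, 1, 0], [1, 0, 0, 1, 0, 1],
  [1, 1, 0, 1, 0, 1], [0, 1, 1, 1, 0, 1], [1, 1, 1, 1, 0, 1], [1, 0, 1, 1, 1, 1],
  [1, 1, 1, 0, 1, 0, 0], [1, 0, 0, 1, 0, 1, 0], [0, 1, 1, 1, 0, 1, 0], [1, 1, 1, 1, 0, 1, 0],
  [1, 1, 0, 0, 1, 0, 1], [1, 1, 1, 0, 1, 0, 1], [0, 1, 1, 1, 0, 1, 0, 0],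
  [1, 1, 1, 1, 0, 1, 0, 0], [1, 1, 0, 0, 1, 0, 1, 0]]

/-- The data of the space. -/
def e3pSpec : Spec where
  n := 12
  N := 36
  T := 0xb7a896514230b6a879514230b7a896504213b6a879504213b7a896504132b6a879504132b6a798514230ba9768514230b7a896543102b6a879543102b6a798504213ba9768504213b7a896543021b6a879543021b6a798504132ba9768504132ba9687514230b6a798543102ba9768543102ba9687504213b7a896543210b6a879543210b6a798543021ba9768543021ba9687504132ba9876514230ba9687543102ba9876504213b6a798543210ba9768543210ba9687543021ba9876504132ba9876543102ba9687543210ba9876543021ba9876543210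
  K := [
  (205163983024656, 1), (205163982766881, 1), (205163982824256, -1), (200839236170256, 1),
  (201801828938256, -1), (205163982816306, 1), (205163982754356, -1), (200839235912481, 1),
  (201801828680481, -1), (205163982894081, -1), (200839235969856, -1), (201801828737856, 1),
  (201668450071056, 1), (200629101539856, -1), (202973298045456, -1), (205163982884931, 1),
  (205163983012131, -1), (200839235961906, 1), (201801828729906, -1), (200839235899956, -1),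
  (201801828667956, 1), (201668449813281, 1), (200629101282081, -1), (202973297787681, -1),
  (205163982962706, -1), (205163982954756, 1), (200839236039681, -1), (201801828807681, 1),
  (201668449870656, -1), (200629101339456, 1), (202973297845056, 1), (202819786519056, 1),
  (204953848394256, -1), (204124634493456, -1), (203991255626256, 1), (200839236030531, 1),
  (201801828798531, -1), (200839236157731, -1), (201801828925731, 1), (201668449862706, 1),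
  (200629101331506, -1), (202973297837106, -1), (201668449800756, -1), (200629101269556, 1),
  (202973297775156, 1), (202819786261281, 1), (204953848136481, -1), (204124634235681, -1),
  (203991255368481, 1), (200839236108306, -1), (201801828876306, 1), (200839236100356, 1),
  (201801828868356, -1), (201668449940481, -1), (200629101409281, 1), (202973297914881, 1),
  (202819786318656, -1), (204953848193856, 1), (204124634293056, 1), (203991255425856, -1),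
  (201668449931331, 1), (200629101400131, -1), (202973297905731, -1), (201668450058531, -1),
  (200629101527331, 1), (202973298032931, 1), (202819786310706, 1), (204953848185906, -1),
  (204124634285106, -1), (203991255417906, 1), (202819786248756, -1), (204953848123956, 1),
  (204124634223156, 1), (203991255355956, -1), (201668450009106, -1), (200629101477906, 1),
  (202973297983506, 1), (201668450001156, 1), (200629101469956, -1), (202973297975556, -1),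
  (202819786388481, -1), (204953848263681, 1), (204124634362881, 1), (203991255495681, -1),
  (202819786379331, 1), (204953848254531, -1), (204124634353731, -1), (203991255486531, 1),
  (202819786506531, -1), (204953848381731, 1), (204124634480931, 1), (203991255613731, -1),
  (202819786457106, -1), (204953848332306, 1), (204124634431506, 1), (203991255564306, -1),
  (202819786449156, 1), (204953848324356, -1), (204124634423556, -1), (203991255556356, 1)]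

/-- Generators of the subgroup. -/
def e3pGens : List (List (ℕ × ℕ) × ℤ) := [
  ([(0, 1), (1, 2), (2, 3), (3, 4)], 1), ([(1, 4), (2, 3)], -1),
  ([(6, 7), (7, 8), (8, 9), (9, 10)], 1), ([(7, 10), (8, 9)], -1)]

/-- The enumeration of the subgroup. -/
def e3pSteps : List (ℕ × ℕ) := [
  (0, 0), (1, 0), (2, 0), (3, 0), (0, 1), (1, 1), (2, 1), (3, 1), (0, 2), (2, 2), (3, 2),
  (2, 3), (3, 3), (2, 4), (0, 5), (1, 5), (2, 5), (3, 5), (2, 6), (3, 6), (2, 7), (3, 7),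
  (2, 8), (0, 9), (1, 9), (2, 9), (3, 9), (2, 10), (3, 10), (2, 11), (2, 12), (3, 12), (2, 14),
  (3, 14), (2, 15), (3, 15), (2, 16), (3, 16), (2, 17), (3, 17), (2, 18), (2, 19), (3, 19),
  (2, 20), (2, 21), (3, 21), (2, 23), (3, 23), (2, 24), (3, 24), (2, 25), (3, 25), (2, 26),
  (3, 26), (2, 27), (2, 28), (3, 28), (2, 30), (3, 30), (2, 35), (3, 35), (2, 36), (2, 37),
  (3, 37), (2, 38), (2, 39), (3, 39), (2, 41), (3, 41), (2, 42), (3, 42), (2, 44), (3, 44),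
  (2, 49), (3, 49), (2, 50), (2, 51), (3, 51), (2, 52), (2, 53), (3, 53), (2, 55), (3, 55),
  (2, 60), (3, 60), (2, 62), (3, 62), (2, 63), (3, 63), (2, 65), (3, 65), (2, 74), (3, 74),
  (2, 76), (3, 76), (2, 77), (3, 77), (2, 79), (3, 79)]

/-- Words for the representatives. -/
def e3pWords : List (List (ℕ × ℕ)) := [
  [], [(0, 1), (1, 2)], [(6, 7), (7, 8)], [(0, 2), (1, 2)], [(0, 2), (1, 3), (2, 3), (3, 4)],
  [(0, 1), (1, 2), (6, 7), (7, 8)], [(6, 8), (7, 8)], [(6, 8), (7, 9), (8, 9), (9, 10)],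
  [(0, 3), (3, 4)], [(0, 2), (1, 2), (6, 7), (7, 8)], [(1, 3), (3, 4)],
  [(0, 2), (1, 3), (2, 3), (3, 4), (6, 7), (7, 8)], [(0, 1), (1, 2), (6, 8), (7, 8)],
  [(0, 1), (1, 2), (6, 8), (7, 9), (8, 9), (9, 10)], [(6, 9), (9, 10)], [(7, 9), (9, 10)],
  [(0, 3), (3, 4), (6, 7), (7, 8)], [(0, 2), (1, 2), (6, 8), (7, 8)],
  [(0, 2), (1, 2), (6, 8), (7, 9), (8, 9), (9, 10)], [(1, 3), (3, 4), (6, 7), (7, 8)],
  [(0, 2), (1, 3), (2, 3), (3, 4), (6, 8), (7, 8)],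
  [(0, 2), (1, 3), (2, 3), (3, 4), (6, 8), (7, 9), (8, 9), (9, 10)],
  [(0, 1), (1, 2), (6, 9), (9, 10)], [(0, 1), (1, 2), (7, 9), (9, 10)],
  [(0, 3), (3, 4), (6, 8), (7, 8)], [(0, 3), (3, 4), (6, 8), (7, 9), (8, 9), (9, 10)],
  [(0, 2), (1, 2), (6, 9), (9, 10)], [(0, 2), (1, 2), (7, 9), (9, 10)],
  [(1, 3), (3, 4), (6, 8), (7, 8)], [(1, 3), (3, 4), (6, 8), (7, 9), (8, 9), (9, 10)],
  [(0, 2), (1, 3), (2, 3), (3, 4), (6, 9), (9, 10)],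
  [(0, 2), (1, 3), (2, 3), (3, 4), (7, 9), (9, 10)], [(0, 3), (3, 4), (6, 9), (9, 10)],
  [(0, 3), (3, 4), (7, 9), (9, 10)], [(1, 3), (3, 4), (6, 9), (9, 10)],
  [(1, 3), (3, 4), (7, 9), (9, 10)]]

theorem e3p_K : e3pSpec.K = closeK 12 e3pGens e3pSteps [(idCode 12, 1)] := by decide +kernel

theorem e3p_tbl : e3pSpec.tblOK e3pWords = true := by decide +kernel

theorem e3p_gens : e3pGens.all (fun g => wordOK 12 g.1) = true := by decide +kernel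

/-- Seed relations. -/
def e3pSeeds : List (List (ℕ × ℤ)) := [
  [(0, 1), (5, 1), (17, 1), (21, 1), (32, 1), (35, 1)],
  [(8, 1), (14, -1), (18, 1), (19, -1), (20, -1), (23, 1)]]

/-- Invariance data. -/
def e3pFix0 : List (List (ℕ × ℕ) × List (ℕ × ℕ) × List Inst) := [
  ([(0, 1), (1, 2), (6, 7), (7, 8)], [(5, 0), (17, 0), (0, 0), (35, 0), (21, 55), (32, 55)], []),
  ([(0, 1), (1, 2), (2, 3), (3, 4), (6, 7), (7, 8), (8, 9), (9, 10)], [(0, 7), (21, 0), (32, 0), (17, 84), (35, 89), (5, 11)], [])]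

theorem e3p_fix0 :
    fixOK e3pSpec 0 [] (e3pSeeds.getD 0 []) e3pFix0 = true ∧
      e3pFix0.map Prod.fst = gD0 := by decide +kernel

/-- Invariance data. -/
def e3pFix1 : List (List (ℕ × ℕ) × List (ℕ × ℕ) × List Inst) := [
  ([(0, 1), (1, 2), (6, 8), (7, 8)], [(20, 9), (23, 14), (14, 14), (8, 9), (19, 0), (18, 0)], []),
  ([(0, 1), (1, 2), (2, 3), (3, 4), (6, 8), (7, 8), (8, 9), (9, 10)], [(19, 37), (14, 45), (8, 31), (23, 2), (18, 62), (20, 4)], [])]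

theorem e3p_fix1 :
    fixOK e3pSpec 0 [] (e3pSeeds.getD 1 []) e3pFix1 = true ∧
      e3pFix1.map Prod.fst = gD1 := by decide +kernel

/-- A part of a certificate. -/
def e3pCert0 : List Inst := [
  ⟨[(0, 2), (1, 3), (2, 3), (3, 4), (6, 9), (8, 10)], 1, 1, [(18, 19), (31, 4), (0, 48), (19, 18), (12, 29), (32, 4)]⟩,
  ⟨[(0, 2), (1, 3), (2, 3), (3, 4), (8, 9), (9, 10)], 0, 2, [(20, 3), (32, 14), (15, 23), (5, 56), (18, 71), (10, 18)]⟩,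
  ⟨[(0, 2), (1, 3), (2, 4), (3, 4), (6, 8), (7, 9), (8, 9), (9, 10)], 0, -2, [(7, 5), (26, 15), (10, 37), (16, 36), (12, 40), (31, 28)]⟩,
  ⟨[(0, 1), (2, 4)], 0, -3, [(0, 9), (11, 6), (28, 15), (13, 6), (32, 2), (27, 5)]⟩,
  ⟨[(0, 3), (1, 3), (2, 3), (3, 4)], 1, 2, [(0, 25), (34, 9), (25, 9), (5, 15), (20, 5), (27, 1)]⟩,
  ⟨[(0, 1), (1, 3), (2, 3), (3, 4)], 1, 1, [(1, 6), (32, 9), (18, 1), (11, 5), (6, 2), (35, 9)]⟩,
  ⟨[(0, 2), (1, 3), (2, 3), (3, 4), (6, 7), (7, 8), (8, 9), (9, 10)], 0, 1, [(4, 3), (25, 0), (14, 1), (12, 56), (27, 71), (19, 18)]⟩,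
  ⟨[(0, 3), (3, 4), (6, 8), (7, 8), (8, 9), (9, 10)], 1, 1, [(5, 51), (32, 31), (4, 31), (27, 15), (29, 41), (6, 8)]⟩,
  ⟨[(0, 2), (1, 3), (2, 3), (3, 4), (6, 9), (8, 10)], 0, 1, [(21, 3), (16, 4), (6, 22), (1, 59), (27, 20), (34, 18)]⟩,
  ⟨[(0, 2), (1, 3), (2, 3), (3, 4), (6, 8), (7, 8), (8, 9), (9, 10)], 1, 1, [(9, 19), (30, 31), (0, 45), (35, 5), (13, 30), (24, 4)]⟩,
  ⟨[(0, 2), (1, 3), (2, 4), (3, 4)], 0, 2, [(0, 5), (9, 15), (28, 16), (25, 15), (22, 5), (31, 2)]⟩,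
  ⟨[(0, 1), (1, 2), (2, 3), (3, 4), (6, 8), (7, 9), (8, 9), (9, 10)], 0, 2, [(7, 1), (30, 0), (8, 3), (9, 36), (28, 64), (23, 28)]⟩,
  ⟨[(0, 1), (1, 2), (6, 9), (8, 10)], 1, 1, [(21, 26), (23, 4), (0, 34), (16, 27), (28, 13), (26, 4)]⟩,
  ⟨[(0, 1), (1, 3), (2, 3), (3, 4), (6, 7), (7, 8), (8, 9), (9, 10)], 0, 1, [(8, 26), (29, 9), (26, 1), (6, 56), (23, 71), (11, 18)]⟩,
  ⟨[(1, 3), (3, 4), (7, 9), (8, 10)], 0, -1, [(19, 12), (4, 80), (22, 45), (18, 57), (6, 42), (33, 20)]⟩,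
  ⟨[(7, 9), (9, 10)], 0, 1, [(15, 0), (13, 14), (9, 3), (20, 4), (8, 13), (34, 13)]⟩,
  ⟨[(0, 1), (1, 2), (6, 8), (7, 9), (8, 10), (9, 10)], 0, 1, [(1, 12), (17, 31), (15, 32), (34, 31), (11, 53), (25, 27)]⟩,
  ⟨[(0, 3), (3, 4), (6, 7), (7, 8), (8, 9), (9, 10)], 1, 1, [(1, 51), (33, 32), (20, 31), (18, 15), (34, 5), (2, 8)]⟩,
  ⟨[(0, 4), (1, 2), (2, 3), (3, 4), (6, 7), (7, 8), (8, 9), (9, 10)], 1, -1, [(4, 51), (35, 89), (17, 84), (25, 15), (22, 16), (2, 18)]⟩,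
  ⟨[(0, 2), (1, 4), (2, 3), (3, 4), (6, 8), (7, 9), (8, 10), (9, 10)], 0, -1, [(3, 28), (6, 70), (35, 46), (30, 45), (5, 28), (25, 50)]⟩,
  ⟨[(1, 3), (3, 4), (6, 8), (7, 8), (8, 9), (9, 10)], 0, 1, [(19, 3), (31, 9), (13, 23), (3, 56), (14, 70), (24, 20)]⟩,
  ⟨[(0, 2), (1, 2), (2, 3), (3, 4), (6, 7), (7, 8)], 0, 2, [(5, 1), (28, 0), (4, 9), (15, 15), (25, 62), (26, 30)]⟩]

/-- A certificate. -/
def e3pCert : List Inst := e3pCert0

theorem e3p_final : finalOK e3pSpec 0 e3pSeeds e3pCert 10 = true := by decide +kernel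

/-- The data of the space. -/
def e3wSpec : Spec where
  n := 12
  N := 36
  T := 0xba9876201435ba9876532041ba9876542130ba9876532410ba9876125340ba9876432501ba9876105324ba9876421035ba9876431520ba9876432015ba9876105243ba9876421350ba9876015342ba9876321405ba9876025314ba9876315024ba9876054123ba9876421503ba9876325410ba9876321054ba9876025143ba9876315240ba9876054231ba9876215304ba9876254013ba9876315402ba9876054312ba9876215043ba9876254130ba9876154203ba9876254301ba9876154032ba9876543102ba9876154320ba9876543021ba9876543210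
  K := [
  (205163983024656, 1), (205163982766881, 1), (205163982824256, -1), (205163982816306, 1),
  (205163982754356, -1), (205163982894081, -1), (205163982884931, 1), (205163983012131, -1),
  (205163982962706, -1), (205163982954756, 1)]

/-- Generators of the subgroup. -/
def e3wGens : List (List (ℕ × ℕ) × ℤ) := [
  ([(0, 1), (1, 2), (2, 3), (3, 4)], 1), ([(1, 4), (2, 3)], -1)]

/-- The enumeration of the subgroup. -/
def e3wSteps : List (ℕ × ℕ) := [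
  (0, 0), (1, 0), (0, 1), (1, 1), (0, 2), (0, 3), (1, 3), (0, 5), (1, 5)]

/-- Words for the representatives. -/
def e3wWords : List (List (ℕ × ℕ)) := [
  [], [(0, 1), (1, 2)], [(1, 2), (2, 3), (3, 4), (4, 5)], [(0, 2), (1, 2)],
  [(0, 2), (1, 3), (3, 4), (4, 5)], [(0, 1), (2, 3), (3, 4), (4, 5)],
  [(0, 3), (1, 3), (3, 4), (4, 5)], [(1, 3), (2, 3), (3, 4), (4, 5)],
  [(0, 3), (1, 4), (2, 3), (3, 5)], [(0, 2), (2, 3), (3, 4), (4, 5)],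
  [(0, 2), (1, 2), (2, 4), (3, 5)], [(0, 3), (2, 3), (3, 4), (4, 5)],
  [(0, 4), (1, 4), (2, 3), (3, 5)], [(0, 1), (1, 3), (3, 4), (4, 5)], [(1, 4), (3, 5)],
  [(0, 3), (1, 4), (2, 4), (3, 5)], [(0, 4), (1, 5), (2, 4), (3, 5)], [(2, 4), (3, 5)],
  [(0, 3), (1, 3), (2, 5), (4, 5)], [(0, 3), (1, 2), (3, 4), (4, 5)],
  [(0, 4), (1, 2), (2, 4), (3, 5)], [(0, 4), (2, 3), (3, 5), (4, 5)],
  [(0, 5), (1, 5), (2, 4), (3, 5)], [(0, 2), (1, 4), (2, 3), (3, 5)],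
  [(1, 5), (2, 3), (3, 5), (4, 5)], [(0, 3), (1, 4), (3, 5), (4, 5)],
  [(0, 5), (2, 5), (3, 5), (4, 5)], [(1, 2), (2, 5), (3, 5), (4, 5)],
  [(0, 5), (1, 3), (2, 5), (4, 5)], [(0, 4), (1, 2), (2, 3), (3, 5)],
  [(0, 1), (2, 5), (3, 5), (4, 5)], [(1, 4), (2, 3), (3, 5), (4, 5)], [(2, 4), (3, 4)],
  [(1, 3), (2, 3)], [(0, 1), (1, 4), (2, 4), (3, 4)], [(0, 5), (1, 3), (2, 4), (4, 5)]]

theorem e3w_K : e3wSpec.K = closeK 12 e3wGens e3wSteps [(idCode 12, 1)] := by decide +kernel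

theorem e3w_tbl : e3wSpec.tblOK e3wWords = true := by decide +kernel

theorem e3w_gens : e3wGens.all (fun g => wordOK 12 g.1) = true := by decide +kernel

/-- Seed relations. -/
def e3wSeeds : List (List (ℕ × ℤ)) := [
  [(0, -36), (2, 9), (4, 3), (5, 9), (8, -3), (10, 9), (11, -6), (12, -9), (14, -6), (16, -3), (17, -9), (18, 9), (22, 3), (24, 9), (25, 9), (26, 3), (28, -3), (29, 6), (30, 6), (31, 3), (35, 3)]]

/-- Images. -/
def e3wJs0 : List (ℕ × ℕ) := [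
  (0, 0), (1, 8), (0, 2), (1, 3), (5, 5), (12, 1), (11, 3), (7, 0), (12, 5), (35, 9), (8, 8),
  (7, 2), (5, 1), (6, 5), (4, 3), (25, 4), (29, 4), (2, 0), (31, 0), (2, 2), (6, 1), (25, 9),
  (17, 2), (10, 1), (14, 0), (20, 3), (10, 5), (22, 1), (16, 8), (20, 8), (17, 0), (27, 0),
  (28, 8), (18, 5), (18, 1), (24, 2), (27, 2), (24, 0), (26, 3), (30, 5)]

theorem e3w_op0 :
    opImgOK e3wSpec 0 e3s0 e3wJs0 = true ∧
      eqCoef e3wSpec.N 0 (e3wSeeds.getD 0 []) (opRel e3wSpec 0 e3s0 e3wJs0 60) = true := by decide +kernel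

/-- A part of a certificate. -/
def e3wCert0 : List Inst := [
  ⟨[(0, 4), (4, 5)], 0, -531442121776, [(19, 7), (29, 0), (2, 1), (35, 7), (11, 2), (16, 9), (7, 1), (5, 4), (17, 3), (22, 0), (20, 2), (0, 6), (10, 1), (33, 9), (31, 3), (32, 0), (1, 3), (4, 9), (34, 0), (6, 6), (12, 1)]⟩,
  ⟨[(1, 3), (4, 5)], 0, 1059074910647, [(18, 5), (10, 5), (16, 4), (5, 8), (8, 4), (2, 5), (7, 8), (35, 2), (25, 4), (4, 4), (6, 5), (0, 5), (29, 2), (34, 8), (14, 4), (1, 4), (32, 8), (22, 2), (33, 5), (20, 3), (12, 2)]⟩,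
  ⟨[(0, 4), (1, 2), (2, 4), (3, 5)], 0, 1462287508600, [(20, 0), (8, 1), (7, 2), (13, 3), (15, 7), (34, 8), (21, 6), (19, 3), (32, 8), (3, 3), (33, 4), (2, 4), (1, 6), (31, 1), (5, 9), (29, 8), (6, 2), (35, 6), (25, 8), (12, 2), (23, 3)]⟩,
  ⟨[(1, 4), (2, 3), (3, 4), (4, 5)], 0, -3050096217057, [(8, 8), (27, 2), (30, 9), (14, 5), (20, 4), (25, 2), (22, 7), (16, 1), (29, 4), (31, 6), (4, 3), (3, 8), (2, 5), (1, 8), (26, 5), (33, 6), (0, 8), (24, 1), (34, 1), (18, 1), (10, 2)]⟩,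
  ⟨[(0, 1), (1, 3), (3, 4), (4, 5)], 0, 2360989356074, [(13, 0), (16, 6), (20, 5), (7, 1), (5, 6), (18, 4), (8, 5), (12, 6), (27, 7), (30, 8), (24, 7), (32, 8), (26, 8), (0, 5), (17, 3), (33, 0), (34, 8), (14, 7), (3, 7), (10, 4), (11, 3)]⟩,
  ⟨[(0, 1), (1, 2), (2, 5), (3, 4)], 0, 953815361789, [(9, 5), (5, 2), (7, 4), (1, 5), (3, 4), (27, 3), (33, 4), (34, 9), (24, 7), (28, 1), (18, 6), (17, 8), (30, 5), (14, 9), (35, 8), (10, 5), (22, 1), (11, 2), (16, 4), (8, 9), (0, 2)]⟩,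
  ⟨[(0, 5), (2, 5), (3, 5), (4, 5)], 0, 1546253076611, [(26, 0), (2, 9), (31, 2), (15, 3), (19, 5), (35, 9), (23, 2), (21, 3), (12, 7), (5, 3), (8, 6), (17, 4), (11, 6), (16, 5), (4, 0), (20, 2), (14, 1), (6, 0), (10, 4), (29, 7), (13, 7)]⟩,
  ⟨[(0, 4), (1, 3), (2, 4), (3, 4)], 0, -2118461308041, [(1, 4), (10, 8), (20, 8), (23, 8), (19, 1), (12, 5), (15, 9), (21, 5), (35, 3), (5, 2), (8, 5), (6, 3), (7, 4), (4, 6), (16, 4), (31, 7), (25, 7), (17, 5), (2, 3), (22, 3), (9, 9)]⟩,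
  ⟨[(0, 1), (1, 2), (2, 4), (3, 5)], 0, 61058352395, [(16, 6), (7, 3), (5, 6), (18, 4), (30, 8), (32, 8), (28, 2), (26, 8), (0, 5), (33, 0), (1, 0), (13, 9), (3, 7), (21, 1), (8, 7), (19, 0), (23, 3), (11, 3), (9, 0), (35, 6), (24, 8)]⟩,
  ⟨[(0, 5), (1, 5), (2, 4), (4, 5)], 0, 3398221048416, [(8, 7), (9, 4), (23, 1), (24, 0), (27, 4), (10, 3), (18, 0), (26, 5), (20, 6), (22, 6), (16, 1), (31, 3), (14, 3), (4, 9), (21, 8), (2, 5), (29, 1), (15, 8), (25, 4), (13, 9), (30, 6)]⟩,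
  ⟨[(1, 4), (2, 3), (3, 5), (4, 5)], 0, -1640258067388, [(31, 0), (28, 8), (24, 8), (22, 8), (17, 6), (1, 7), (10, 7), (20, 1), (34, 3), (0, 8), (33, 2), (35, 2), (3, 8), (5, 5), (30, 3), (12, 9), (8, 4), (26, 6), (11, 7), (27, 0), (14, 4)]⟩,
  ⟨[(1, 2), (4, 5)], 0, -2622623606937, [(24, 2), (11, 8), (7, 8), (6, 8), (29, 3), (16, 7), (2, 8), (25, 6), (20, 3), (10, 7), (17, 2), (33, 5), (22, 8), (0, 2), (12, 3), (3, 9), (1, 4), (8, 6), (34, 7), (35, 9), (31, 1)]⟩,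
  ⟨[(0, 5), (1, 5), (3, 5), (4, 5)], 0, 1205004838756, [(24, 5), (9, 9), (23, 2), (8, 3), (11, 5), (31, 4), (35, 6), (12, 3), (29, 7), (2, 3), (25, 6), (10, 4), (6, 6), (17, 7), (13, 0), (22, 8), (20, 2), (19, 0), (16, 8), (21, 7), (7, 7)]⟩,
  ⟨[(0, 5), (1, 3), (2, 5), (3, 4)], 0, 3128213348329, [(12, 7), (22, 0), (10, 1), (19, 2), (15, 1), (18, 1), (23, 1), (13, 2), (26, 0), (28, 6), (24, 1), (4, 6), (27, 1), (25, 7), (17, 8), (29, 1), (6, 3), (14, 9), (31, 3), (20, 6), (21, 9)]⟩,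
  ⟨[(0, 5), (1, 5), (2, 3), (3, 5)], 0, 6167141655694, [(7, 9), (21, 7), (13, 5), (20, 3), (17, 1), (6, 2), (16, 7), (10, 3), (2, 4), (25, 1), (29, 6), (27, 7), (4, 2), (28, 2), (15, 8), (24, 9), (18, 4), (9, 7), (30, 1), (19, 4), (22, 4)]⟩,
  ⟨[(0, 3), (1, 4), (2, 4), (4, 5)], 0, -882020332845, [(35, 1), (30, 9), (28, 7), (25, 5), (29, 4), (21, 1), (31, 0), (6, 9), (23, 3), (15, 6), (9, 3), (32, 2), (19, 5), (34, 4), (18, 1), (3, 2), (1, 1), (26, 0), (0, 4), (24, 8), (2, 5)]⟩,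
  ⟨[(0, 3), (1, 3), (2, 5), (3, 4)], 0, 1031973001852, [(7, 5), (19, 2), (9, 4), (1, 3), (34, 5), (24, 1), (33, 9), (3, 3), (27, 4), (18, 6), (28, 1), (2, 7), (30, 6), (29, 8), (15, 1), (6, 8), (25, 8), (13, 2), (4, 8), (21, 8), (32, 7)]⟩,
  ⟨[(0, 2), (1, 5), (2, 5), (3, 4)], 0, -902017712926, [(15, 4), (1, 5), (32, 1), (25, 7), (2, 7), (18, 6), (4, 6), (29, 8), (30, 6), (27, 9), (28, 9), (20, 0), (26, 3), (10, 0), (3, 4), (22, 5), (14, 0), (34, 9), (17, 6), (0, 3), (31, 0)]⟩,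
  ⟨[(0, 5), (1, 2)], 0, 667360453784, [(9, 9), (8, 6), (11, 5), (31, 4), (2, 3), (10, 4), (4, 5), (6, 6), (17, 7), (22, 8), (14, 7), (24, 8), (16, 8), (18, 8), (35, 1), (27, 0), (28, 8), (7, 7), (30, 7), (5, 4), (25, 9)]⟩,
  ⟨[(0, 2), (2, 4), (3, 5), (4, 5)], 0, 425210931392, [(19, 1), (6, 3), (4, 6), (28, 6), (26, 2), (32, 3), (18, 3), (30, 4), (0, 3), (1, 7), (33, 7), (17, 6), (34, 3), (20, 1), (31, 7), (16, 3), (22, 5), (2, 3), (10, 9), (29, 1), (24, 0)]⟩,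
  ⟨[(0, 3), (1, 3), (3, 5), (4, 5)], 0, -437204301540, [(27, 9), (15, 2), (21, 4), (12, 1), (8, 6), (34, 6), (7, 9), (11, 5), (33, 1), (1, 2), (32, 9), (31, 7), (3, 4), (2, 3), (23, 6), (4, 7), (6, 6), (9, 5), (25, 9), (13, 5), (5, 6)]⟩,
  ⟨[(1, 4), (2, 5), (3, 5), (4, 5)], 0, 3642584767484, [(4, 3), (30, 1), (27, 8), (34, 1), (32, 6), (7, 9), (33, 6), (1, 7), (12, 1), (11, 0), (8, 8), (17, 9), (5, 0), (16, 3), (26, 6), (22, 7), (10, 9), (28, 5), (14, 5), (18, 5), (0, 1)]⟩,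
  ⟨[(0, 2), (1, 5), (3, 5), (4, 5)], 0, -4269863603436, [(30, 7), (3, 0), (0, 0), (9, 9), (13, 0), (2, 0), (15, 3), (19, 0), (4, 0), (25, 0), (31, 4), (16, 6), (29, 0), (20, 5), (33, 8), (17, 3), (22, 3), (32, 9), (14, 7), (34, 6), (21, 0)]⟩,
  ⟨[(1, 4), (2, 4), (3, 4), (4, 5)], 0, -1184880273665, [(22, 1), (28, 3), (24, 6), (31, 5), (25, 3), (35, 6), (29, 5), (2, 9), (8, 3), (12, 7), (11, 3), (1, 1), (7, 5), (32, 2), (27, 1), (0, 6), (34, 4), (18, 3), (33, 9), (30, 1), (4, 5)]⟩,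
  ⟨[(0, 5), (1, 3), (2, 3), (3, 4)], 0, 5394617393112, [(21, 7), (20, 6), (17, 1), (6, 2), (25, 1), (27, 7), (31, 1), (4, 2), (28, 2), (24, 9), (26, 2), (7, 6), (30, 1), (8, 7), (16, 2), (12, 1), (11, 3), (22, 4), (35, 5), (14, 7), (29, 9)]⟩,
  ⟨[(0, 3), (4, 5)], 0, -1175184672863, [(24, 3), (2, 8), (6, 8), (7, 8), (35, 9), (19, 5), (11, 8), (12, 7), (21, 3), (9, 4), (13, 5), (1, 3), (23, 1), (0, 6), (25, 4), (34, 5), (33, 9), (31, 6), (3, 3), (29, 3), (8, 1)]⟩,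
  ⟨[(0, 4), (1, 4), (2, 5), (4, 5)], 0, 1763591416979, [(29, 2), (19, 6), (23, 7), (0, 2), (32, 4), (16, 5), (33, 5), (3, 2), (14, 1), (22, 4), (10, 8), (35, 1), (20, 9), (7, 7), (15, 2), (11, 1), (8, 9), (21, 4), (12, 5), (13, 7), (34, 2)]⟩,
  ⟨[(0, 4), (1, 4), (3, 5), (4, 5)], 0, -2366415218528, [(31, 5), (21, 2), (9, 2), (11, 3), (35, 0), (3, 2), (8, 7), (5, 3), (0, 4), (34, 9), (33, 9), (17, 7), (1, 2), (20, 2), (19, 9), (14, 9), (10, 4), (15, 2), (22, 1), (23, 1), (12, 4)]⟩,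
  ⟨[(0, 1), (2, 4), (3, 5), (4, 5)], 0, 1618099755776, [(11, 1), (19, 3), (13, 6), (26, 8), (24, 1), (34, 5), (30, 8), (27, 4), (3, 3), (0, 7), (32, 5), (10, 6), (33, 7), (22, 6), (23, 7), (17, 9), (14, 3), (9, 3), (16, 3), (21, 1), (28, 9)]⟩,
  ⟨[(0, 2), (1, 2), (3, 4), (4, 5)], 0, -318136508737, [(17, 9), (19, 1), (21, 5), (6, 1), (4, 6), (28, 6), (31, 5), (25, 7), (27, 1), (26, 2), (24, 9), (32, 3), (30, 4), (0, 3), (13, 6), (1, 7), (3, 6), (15, 7), (34, 3), (9, 2), (2, 3)]⟩,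
  ⟨[(0, 4), (1, 2), (2, 3), (4, 5)], 0, 1958200226809, [(13, 7), (8, 5), (7, 1), (20, 5), (10, 4), (2, 3), (16, 6), (17, 7), (6, 6), (29, 6), (25, 1), (34, 0), (4, 3), (0, 9), (12, 4), (3, 5), (32, 0), (11, 9), (33, 6), (5, 6), (14, 2)]⟩,
  ⟨[(1, 5), (2, 3), (3, 4), (4, 5)], 0, 2527454804249, [(35, 9), (1, 3), (0, 6), (22, 0), (17, 8), (28, 1), (16, 0), (14, 9), (30, 5), (24, 6), (18, 1), (31, 5), (26, 7), (6, 1), (34, 5), (25, 3), (29, 5), (3, 3), (2, 9), (32, 0), (20, 5)]⟩,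
  ⟨[(0, 3), (1, 5)], 0, -1861577632698, [(31, 3), (34, 4), (1, 1), (12, 7), (8, 8), (15, 9), (35, 9), (5, 7), (23, 8), (21, 0), (19, 2), (27, 2), (9, 1), (30, 9), (33, 2), (26, 5), (28, 7), (3, 9), (24, 1), (0, 6), (11, 1)]⟩,
  ⟨[(0, 3), (1, 2), (3, 5), (4, 5)], 0, 2255404709416, [(18, 2), (8, 2), (12, 4), (29, 1), (25, 6), (33, 8), (4, 9), (6, 5), (32, 9), (0, 2), (34, 4), (23, 7), (1, 4), (9, 3), (35, 2), (13, 7), (19, 6), (5, 5), (15, 9), (7, 5), (2, 6)]⟩,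
  ⟨[(0, 1), (1, 2), (2, 3), (3, 4)], 0, 4228776240208, [(0, 1), (8, 9), (35, 1), (22, 4), (14, 5), (30, 9), (16, 2), (17, 0), (28, 7), (18, 1), (24, 6), (15, 1), (26, 0), (13, 2), (12, 0), (9, 9), (19, 4), (5, 1), (23, 2), (11, 1), (10, 7)]⟩,
  ⟨[(0, 5), (1, 2), (3, 4), (4, 5)], 0, -1259913466952, [(22, 2), (12, 6), (7, 3), (4, 2), (29, 2), (18, 7), (25, 1), (2, 2), (30, 8), (28, 8), (27, 8), (19, 6), (24, 8), (23, 7), (11, 7), (15, 2), (9, 3), (35, 4), (21, 4), (8, 7), (31, 8)]⟩,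
  ⟨[(1, 5), (4, 5)], 0, -185794794880, [(30, 1), (34, 3), (32, 6), (7, 9), (11, 0), (17, 9), (35, 5), (5, 0), (16, 3), (22, 7), (20, 3), (4, 1), (14, 5), (31, 0), (33, 1), (2, 6), (25, 5), (0, 1), (29, 6), (3, 1), (8, 5)]⟩,
  ⟨[(0, 1), (1, 3), (2, 4), (3, 5)], 0, 2340234610240, [(9, 1), (17, 1), (10, 3), (27, 4), (28, 2), (1, 9), (24, 1), (18, 4), (33, 3), (3, 0), (34, 2), (5, 9), (0, 0), (35, 6), (14, 7), (7, 0), (8, 3), (16, 9), (11, 0), (22, 6), (30, 1)]⟩,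
  ⟨[(0, 3), (1, 5), (2, 5), (3, 4)], 0, 1595478160640, [(12, 3), (34, 9), (1, 2), (31, 7), (4, 7), (27, 6), (6, 6), (25, 9), (28, 1), (26, 3), (24, 8), (15, 5), (18, 9), (13, 1), (0, 9), (21, 4), (23, 0), (32, 0), (19, 9), (33, 5), (29, 5)]⟩,
  ⟨[(0, 5), (1, 4), (2, 3), (3, 5)], 0, -2110706905120, [(5, 4), (28, 0), (18, 0), (16, 0), (14, 2), (23, 3), (10, 1), (20, 4), (13, 9), (9, 5), (19, 4), (25, 4), (15, 4), (31, 6), (30, 5), (6, 3), (2, 5), (27, 6), (4, 6), (26, 0), (17, 9)]⟩,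
  ⟨[(0, 3), (1, 5), (2, 5), (4, 5)], 0, 2455204092000, [(26, 9), (3, 7), (32, 5), (6, 9), (2, 0), (13, 0), (29, 4), (4, 0), (19, 0), (23, 0), (21, 3), (5, 1), (15, 5), (8, 0), (1, 8), (11, 6), (12, 0), (0, 8), (35, 0), (34, 4), (31, 5)]⟩,
  ⟨[(0, 4), (1, 2), (2, 5), (3, 5)], 0, -1678027019040, [(14, 1), (5, 6), (12, 6), (32, 7), (0, 5), (4, 4), (33, 3), (34, 8), (29, 2), (25, 9), (6, 7), (15, 8), (31, 8), (9, 7), (35, 6), (13, 1), (21, 8), (8, 3), (23, 0), (11, 7), (3, 7)]⟩,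
  ⟨[(0, 2), (1, 3), (2, 4), (3, 4)], 0, -5173882218400, [(0, 3), (14, 8), (10, 8), (26, 4), (28, 3), (23, 5), (18, 5), (24, 6), (19, 1), (15, 3), (13, 8), (31, 2), (9, 9), (25, 3), (17, 0), (29, 7), (2, 9), (22, 7), (4, 5), (16, 4), (30, 8)]⟩,
  ⟨[(0, 2), (1, 5), (2, 4), (3, 4)], 0, -1554806929440, [(4, 2), (33, 6), (34, 1), (27, 8), (18, 5), (13, 7), (30, 1), (26, 4), (15, 9), (9, 8), (21, 4), (10, 5), (19, 8), (16, 4), (1, 3), (14, 4), (17, 5), (0, 6), (22, 2), (32, 6), (28, 7)]⟩,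
  ⟨[(0, 4), (1, 4), (2, 3), (4, 5)], 0, 2966236631840, [(4, 7), (15, 5), (13, 1), (14, 0), (17, 4), (5, 3), (10, 0), (16, 5), (11, 6), (12, 6), (8, 1), (32, 7), (7, 3), (1, 9), (21, 4), (0, 5), (33, 3), (19, 9), (34, 8), (9, 6), (22, 6)]⟩,
  ⟨[(0, 4), (1, 5), (3, 5), (4, 5)], 0, -3489556272160, [(9, 6), (33, 4), (1, 5), (7, 4), (8, 9), (25, 8), (5, 2), (35, 1), (2, 7), (4, 1), (6, 6), (22, 7), (31, 0), (14, 5), (34, 2), (16, 8), (17, 0), (0, 7), (10, 7), (3, 4), (11, 8)]⟩,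
  ⟨[(0, 1), (3, 4)], 0, 330153908480, [(3, 8), (23, 9), (21, 9), (35, 4), (8, 5), (24, 4), (11, 7), (7, 1), (30, 2), (26, 9), (28, 7), (20, 2), (27, 3), (10, 4), (15, 5), (16, 1), (17, 7), (13, 1), (14, 2), (9, 1), (5, 4)]⟩,
  ⟨[(0, 5), (3, 4)], 0, -2289672528960, [(23, 6), (25, 7), (6, 3), (5, 2), (35, 8), (28, 9), (12, 2), (11, 2), (26, 2), (18, 0), (27, 3), (16, 0), (24, 0), (22, 0), (2, 7), (14, 2), (10, 1), (29, 8), (20, 4), (31, 7), (8, 8)]⟩,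
  ⟨[(0, 3), (1, 3), (2, 4), (3, 5)], 0, 2066159920000, [(4, 1), (9, 3), (19, 6), (28, 8), (30, 3), (0, 4), (18, 8), (26, 6), (32, 4), (33, 7), (1, 7), (11, 9), (34, 2), (8, 2), (21, 6), (5, 0), (12, 4), (13, 3), (7, 0), (15, 2), (27, 7)]⟩,
  ⟨[(1, 2), (2, 3), (3, 4), (4, 5)], 0, 690879089440, [(2, 0), (5, 1), (8, 0), (10, 0), (16, 0), (18, 0), (20, 0), (22, 0), (24, 0), (26, 0), (27, 0), (0, 9), (30, 0), (32, 0), (11, 6), (1, 0), (34, 0), (35, 0), (3, 0), (7, 2), (17, 1)]⟩,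
  ⟨[(0, 1), (2, 5), (3, 4), (4, 5)], 0, -1277273675840, [(16, 7), (13, 2), (19, 4), (32, 0), (33, 4), (18, 3), (0, 9), (1, 5), (28, 6), (30, 6), (26, 1), (7, 7), (24, 3), (8, 9), (21, 2), (5, 8), (35, 1), (9, 2), (11, 8), (23, 9), (3, 6)]⟩,
  ⟨[(0, 4), (2, 5), (3, 4), (4, 5)], 0, -611087088320, [(20, 2), (2, 6), (29, 6), (34, 0), (3, 5), (13, 4), (32, 0), (33, 6), (21, 2), (15, 9), (19, 7), (8, 8), (23, 8), (5, 7), (31, 2), (7, 1), (12, 8), (25, 3), (35, 7), (6, 7), (1, 7)]⟩,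
  ⟨[(0, 2), (2, 4)], 0, -1018030412320, [(1, 5), (25, 8), (2, 7), (18, 6), (27, 9), (20, 0), (24, 3), (26, 3), (10, 0), (22, 5), (16, 4), (15, 2), (17, 6), (21, 4), (4, 1), (23, 6), (19, 9), (31, 0), (9, 5), (6, 8), (28, 0)]⟩,
  ⟨[(0, 1), (1, 5), (3, 4), (4, 5)], 0, -3619912636160, [(14, 4), (33, 3), (32, 7), (12, 6), (11, 7), (28, 4), (5, 6), (35, 4), (26, 1), (27, 2), (18, 7), (21, 0), (30, 9), (9, 1), (34, 1), (23, 3), (15, 0), (3, 5), (13, 9), (0, 5), (8, 0)]⟩,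
  ⟨[(1, 2), (2, 4), (3, 4), (4, 5)], 0, -1416501813280, [(20, 8), (12, 5), (35, 3), (26, 7), (18, 7), (29, 2), (24, 6), (30, 8), (2, 2), (6, 9), (31, 2), (32, 5), (25, 2), (33, 0), (5, 2), (34, 4), (3, 7), (7, 4), (1, 1), (8, 3), (27, 4)]⟩,
  ⟨[(0, 3), (1, 3), (2, 3), (3, 5)], 0, -1132881022720, [(5, 8), (13, 5), (23, 4), (6, 5), (2, 4), (3, 3), (25, 6), (31, 1), (1, 6), (32, 3), (33, 5), (26, 2), (0, 3), (30, 4), (19, 4), (27, 5), (28, 9), (15, 1), (18, 5), (9, 3), (4, 2)]⟩,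
  ⟨[(0, 4), (1, 4), (2, 5), (3, 4)], 0, -1464355977600, [(8, 1), (13, 6), (15, 7), (34, 8), (3, 3), (2, 4), (0, 5), (1, 6), (31, 1), (29, 8), (4, 7), (20, 9), (25, 8), (16, 2), (21, 1), (10, 0), (22, 4), (23, 3), (14, 0), (9, 7), (33, 7)]⟩,
  ⟨[(0, 4), (1, 3), (3, 4), (4, 5)], 0, 894082948640, [(2, 7), (20, 0), (10, 0), (8, 0), (7, 2), (13, 3), (5, 1), (11, 4), (9, 6), (15, 7), (23, 1), (34, 8), (19, 3), (32, 8), (22, 5), (3, 3), (0, 5), (17, 6), (1, 6), (16, 0), (35, 6)]⟩,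
  ⟨[(1, 3), (2, 3), (3, 5), (4, 5)], 0, 335209591840, [(27, 2), (14, 2), (20, 4), (25, 2), (31, 6), (3, 8), (6, 9), (2, 5), (1, 8), (33, 6), (32, 2), (8, 7), (34, 1), (11, 3), (22, 2), (5, 7), (7, 6), (10, 2), (12, 8), (17, 2), (4, 6)]⟩,
  ⟨[(0, 3), (3, 4)], 0, 575927632320, [(33, 1), (29, 8), (25, 8), (8, 9), (12, 0), (18, 9), (7, 7), (5, 1), (27, 9), (24, 0), (30, 9), (23, 1), (28, 0), (19, 2), (31, 5), (13, 9), (9, 4), (6, 1), (21, 1), (4, 1), (11, 4)]⟩]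

/-- A part of a certificate. -/
def e3wCert1 : List Inst := [
  ⟨[(0, 4), (2, 5)], 0, 1368853221120, [(12, 2), (6, 6), (31, 7), (1, 2), (33, 5), (10, 7), (34, 9), (0, 2), (22, 8), (20, 8), (17, 8), (23, 8), (14, 8), (13, 7), (25, 2), (19, 1), (15, 9), (29, 4), (21, 5), (4, 7), (32, 6)]⟩,
  ⟨[(0, 4), (1, 4)], 0, -107832294720, [(34, 1), (13, 7), (15, 9), (8, 8), (7, 1), (20, 5), (12, 8), (35, 7), (22, 3), (10, 4), (14, 5), (2, 3), (17, 7), (6, 6), (9, 8), (29, 6), (31, 7), (19, 8), (4, 3), (21, 0), (11, 9)]⟩]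

/-- A certificate. -/
def e3wCert : List Inst := e3wCert0 ++ e3wCert1

theorem e3w_final : finalOK e3wSpec 0 e3wSeeds e3wCert 360 = true := by decide +kernel

end Cfsg.Agent.Solv.AltSec.Seven
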