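import Cfsg.Agent.Lib.Solv.AltSec.Seven.DataOps

/-!
Certificate data for the alternating group of degree twelve.
-/

set_option autoImplicit false

namespace Cfsg.Agent.Solv.AltSec.Seven

/-- An element of the group ring. -/
def e4qW : List (List (ℕ × ℕ) × ℤ) := [
  ([], 16), ([(8, 9), (9, 10)], 4), ([(8, 10), (9, 10)], 4), ([(7, 8), (8, 9)], 4),
  ([(7, 8), (8, 10)], 4), ([(7, 9), (8, 9)], 4), ([(7, 9), (9, 10)], 4),
  ([(7, 10), (8, 10)], 4), ([(7, 10), (9, 10)], 4), ([(6, 7), (7, 8)], 4),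
  ([(6, 7), (7, 8), (8, 9), (9, 10)], -4), ([(6, 7), (7, 8), (8, 10), (9, 10)], -4),
  ([(6, 7), (7, 9), (8, 9), (9, 10)], -4), ([(6, 7), (7, 9)], 4),
  ([(6, 7), (7, 9), (8, 10), (9, 10)], -4), ([(6, 7), (7, 10), (8, 10), (9, 10)], -4),
  ([(6, 7), (7, 10)], 4), ([(6, 7), (7, 10), (8, 9), (9, 10)], -4), ([(6, 8), (7, 8)], 4),
  ([(6, 8), (7, 8), (8, 9), (9, 10)], -4), ([(6, 8), (7, 8), (8, 10), (9, 10)], -4),
  ([(6, 8), (8, 9)], 4), ([(6, 8), (8, 10)], 4), ([(6, 8), (7, 9), (8, 9), (9, 10)], -4),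
  ([(6, 8), (7, 9), (8, 10), (9, 10)], -4), ([(6, 8), (7, 10), (8, 10), (9, 10)], -4),
  ([(6, 8), (7, 10), (8, 9), (9, 10)], -4), ([(6, 9), (7, 9), (8, 9), (9, 10)], -4),
  ([(6, 9), (7, 9)], 4), ([(6, 9), (7, 9), (8, 10), (9, 10)], -4), ([(6, 9), (8, 9)], 4),
  ([(6, 9), (9, 10)], 4), ([(6, 9), (7, 8), (8, 9), (9, 10)], -4),
  ([(6, 9), (7, 8), (8, 10), (9, 10)], -4), ([(6, 9), (7, 10), (8, 9), (9, 10)], -4),
  ([(6, 9), (7, 10), (8, 10), (9, 10)], -4), ([(6, 10), (7, 10), (8, 10), (9, 10)], -4),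
  ([(6, 10), (7, 10)], 4), ([(6, 10), (7, 10), (8, 9), (9, 10)], -4), ([(6, 10), (8, 10)], 4),
  ([(6, 10), (9, 10)], 4), ([(6, 10), (7, 8), (8, 10), (9, 10)], -4),
  ([(6, 10), (7, 8), (8, 9), (9, 10)], -4), ([(6, 10), (7, 9), (8, 10), (9, 10)], -4),
  ([(6, 10), (7, 9), (8, 9), (9, 10)], -4)]

/-- An element of the group ring. -/
def e4q : List (ℕ × ℤ) := ofWords 12 e4qW

theorem e4q_evn : Evns 12 e4q := evns_ofWords (by norm_num) (by decide +kernel)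

/-- The data of the space. -/
def e4xSpec : Spec where
  n := 12
  N := 60
  T := 0xba9876534012ba9876503412ba9876540312ba9876534201ba9876534120ba9876503124ba9876540123ba9876523401ba9876542301ba9876541320ba9876503241ba9876540231ba9876523140ba9876523014ba9876513420ba9876542013ba9876512340ba9876541203ba9876531240ba9876501234ba9876530214ba9876513204ba9876513042ba9876542130ba9876512034ba9876512403ba9876541032ba9876532410ba9876502314ba9876531402ba9876501342ba9876530142ba9876520134ba9876524103ba9876532104ba9876502143ba9876532041ba9876502431ba9876531024ba9876501423ba9876530421ba9876521304ba9876520341ba9876524031ba9876510324ba9876514023ba9876521043ba9876521430ba9876520413ba9876524310ba9876510243ba9876514230ba9876504213ba9876510432ba9876514302ba9876504132ba9876543102ba9876504321ba9876543021ba9876543210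
  K := [
  (205163983024656, 1)]

/-- Generators of the subgroup. -/
def e4xGens : List (List (ℕ × ℕ) × ℤ) := [
]

/-- The enumeration of the subgroup. -/
def e4xSteps : List (ℕ × ℕ) := [
]

/-- Words for the representatives. -/
def e4xWords : List (List (ℕ × ℕ)) := [
  [], [(0, 1), (1, 2)], [(0, 1), (1, 2), (2, 3), (3, 4)], [(0, 2), (1, 2)],
  [(0, 2), (1, 3), (2, 3), (3, 4)], [(0, 2), (1, 2), (2, 3), (3, 4)],
  [(0, 2), (1, 3), (2, 4), (3, 4)], [(0, 3), (3, 4)], [(1, 3), (3, 4)], [(0, 3), (1, 4)],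
  [(2, 3), (3, 4)], [(0, 3), (2, 4)], [(1, 3), (2, 4)], [(0, 3), (1, 4), (2, 3), (3, 4)],
  [(0, 3), (1, 2), (2, 3), (3, 4)], [(0, 4), (1, 2), (2, 3), (3, 4)],
  [(0, 1), (1, 3), (2, 3), (3, 4)], [(0, 1), (1, 4), (2, 3), (3, 4)],
  [(0, 4), (1, 4), (2, 3), (3, 4)], [(0, 1), (1, 2), (2, 4), (3, 4)],
  [(0, 3), (1, 2), (2, 4), (3, 4)], [(0, 4), (1, 2), (2, 4), (3, 4)],
  [(0, 1), (1, 3), (2, 4), (3, 4)], [(0, 1), (1, 4), (2, 4), (3, 4)],
  [(0, 3), (1, 4), (2, 4), (3, 4)], [(0, 4), (1, 4), (2, 4), (3, 4)],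
  [(0, 3), (1, 3), (2, 3), (3, 4)], [(0, 4), (1, 3), (2, 3), (3, 4)],
  [(0, 2), (1, 4), (2, 4), (3, 4)], [(0, 2), (1, 4), (2, 3), (3, 4)],
  [(0, 2), (1, 2), (2, 4), (3, 4)], [(0, 4), (2, 3)], [(2, 4), (3, 4)], [(0, 2), (1, 3)],
  [(0, 3), (1, 3), (2, 4), (3, 4)], [(0, 4), (1, 3), (2, 4), (3, 4)], [(1, 3), (2, 3)],
  [(0, 2), (1, 4)], [(0, 4), (1, 4)], [(0, 4), (3, 4)], [(0, 4), (1, 3)], [(1, 4), (3, 4)],
  [(0, 3), (1, 3)], [(1, 4), (2, 3)], [(0, 3), (2, 3)], [(1, 2), (2, 4)], [(0, 4), (2, 4)],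
  [(1, 4), (2, 4)], [(0, 1), (1, 3)], [(0, 1), (1, 4)], [(1, 2), (2, 3)], [(0, 1), (2, 3)],
  [(0, 1), (2, 4)], [(0, 3), (1, 2)], [(0, 4), (1, 2)], [(1, 2), (3, 4)], [(0, 1), (3, 4)],
  [(0, 2), (2, 3)], [(0, 2), (2, 4)], [(0, 2), (3, 4)]]

theorem e4x_K : e4xSpec.K = closeK 12 e4xGens e4xSteps [(idCode 12, 1)] := by decide +kernel

theorem e4x_tbl : e4xSpec.tblOK e4xWords = true := by decide +kernel

theorem e4x_gens : e4xGens.all (fun g => wordOK 12 g.1) = true := by decide +kernel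

/-- Seed relations. -/
def e4xSeeds : List (List (ℕ × ℤ)) := [
  [(0, 1), (1, 1), (3, 1), (33, 1), (36, 1), (42, 1), (44, 1), (48, 1), (50, 1), (51, 1), (53, 1), (57, 1)],
  [(2, 1), (4, 1), (5, 1), (7, 1), (8, 1), (10, 1), (14, 1), (16, 1), (26, 1), (55, 1), (56, 1), (59, 1)],
  [(6, 1), (11, 1), (12, 1), (19, 1), (20, 1), (22, 1), (30, 1), (32, 1), (34, 1), (45, 1), (52, 1), (58, 1)],
  [(15, 1), (18, 1), (21, 1), (25, 1), (27, 1), (31, 1), (35, 1), (38, 1), (39, 1), (40, 1), (46, 1), (54, 1)],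
  [(0, -44), (1, 4), (2, -4), (3, 4), (4, -4), (5, -4), (6, -4), (7, 4), (8, 4), (10, 4), (13, -4), (14, -4), (15, -4), (16, -4), (17, -4), (18, -4), (19, -4), (20, -4), (21, -4), (22, -4), (23, -4), (24, -4), (25, -4), (26, -4), (27, -4), (28, -4), (29, -4), (30, -4), (32, 4), (34, -4), (35, -4), (36, 4), (38, 4), (39, 4), (41, 4), (42, 4), (44, 4), (45, 4), (46, 4), (47, 4), (48, 4), (49, 4), (50, 4), (57, 4), (58, 4)]]

/-- Eigenvector data. -/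
def e4xEig0 : List (List (ℕ × ℕ) × List (ℕ × ℕ) × ℤ) := [
  ([(0, 1), (2, 3)], [(51, 0), (36, 0), (44, 0), (53, 0), (1, 0), (57, 0), (3, 0), (50, 0), (48, 0), (0, 0), (33, 0), (42, 0)], 1),
  ([(0, 1), (1, 2)], [(1, 0), (3, 0), (0, 0), (36, 0), (48, 0), (44, 0), (53, 0), (33, 0), (51, 0), (57, 0), (42, 0), (50, 0)], 1)]

/-- Eigenvector data. -/
def e4xEig1 : List (List (ℕ × ℕ) × List (ℕ × ℕ) × ℤ) := [
  ([(0, 1), (2, 3)], [(8, 0), (14, 0), (7, 0), (5, 0), (2, 0), (56, 0), (4, 0), (55, 0), (59, 0), (16, 0), (10, 0), (26, 0)], 1),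
  ([(0, 1), (1, 2)], [(5, 0), (8, 0), (10, 0), (14, 0), (16, 0), (2, 0), (26, 0), (4, 0), (7, 0), (56, 0), (59, 0), (55, 0)], 1)]

/-- Eigenvector data. -/
def e4xEig2 : List (List (ℕ × ℕ) × List (ℕ × ℕ) × ℤ) := [
  ([(0, 1), (2, 3)], [(20, 0), (30, 0), (19, 0), (12, 0), (6, 0), (45, 0), (11, 0), (52, 0), (58, 0), (22, 0), (32, 0), (34, 0)], 1),
  ([(0, 1), (1, 2)], [(12, 0), (20, 0), (22, 0), (30, 0), (34, 0), (6, 0), (32, 0), (19, 0), (11, 0), (52, 0), (58, 0), (45, 0)], 1)]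

/-- Eigenvector data. -/
def e4xEig3 : List (List (ℕ × ℕ) × List (ℕ × ℕ) × ℤ) := [
  ([(0, 1), (2, 3)], [(40, 0), (39, 0), (27, 0), (46, 0), (21, 0), (38, 0), (54, 0), (31, 0), (18, 0), (15, 0), (25, 0), (35, 0)], 1),
  ([(0, 1), (1, 2)], [(18, 0), (31, 0), (25, 0), (39, 0), (40, 0), (15, 0), (27, 0), (46, 0), (21, 0), (35, 0), (54, 0), (38, 0)], 1)]

/-- Images. -/
def e4xJs4 : List (ℕ × ℕ) := [
  (0, 0), (10, 0), (32, 0), (50, 0), (45, 0), (36, 0), (8, 0), (47, 0), (41, 0), (1, 0), (2, 0),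
  (19, 0), (16, 0), (48, 0), (22, 0), (23, 0), (49, 0), (17, 0), (3, 0), (5, 0), (30, 0),
  (57, 0), (58, 0), (4, 0), (6, 0), (28, 0), (29, 0), (26, 0), (42, 0), (34, 0), (44, 0),
  (7, 0), (14, 0), (20, 0), (13, 0), (24, 0), (25, 0), (38, 0), (18, 0), (46, 0), (39, 0),
  (21, 0), (15, 0), (35, 0), (27, 0)]

theorem e4x_op4 :
    opImgOK e4xSpec 0 e4 e4xJs4 = true ∧
      eqCoef e4xSpec.N 0 (e4xSeeds.getD 4 []) (opRel e4xSpec 0 e4 e4xJs4 60) = true := by decide +kernel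

/-- A part of a certificate. -/
def e4xCert0 : List Inst := [
  ⟨[], 0, 4, [(0, 0), (1, 0), (3, 0), (33, 0), (36, 0), (42, 0), (44, 0), (48, 0), (50, 0), (51, 0), (53, 0), (57, 0)]⟩,
  ⟨[], 4, -1, [(0, 0), (1, 0), (2, 0), (3, 0), (4, 0), (5, 0), (6, 0), (7, 0), (8, 0), (10, 0), (13, 0), (14, 0), (15, 0), (16, 0), (17, 0), (18, 0), (19, 0), (20, 0), (21, 0), (22, 0), (23, 0), (24, 0), (25, 0), (26, 0), (27, 0), (28, 0), (29, 0), (30, 0), (32, 0), (34, 0), (35, 0), (36, 0), (38, 0), (39, 0), (41, 0), (42, 0), (44, 0), (45, 0), (46, 0), (47, 0), (48, 0), (49, 0), (50, 0), (57, 0), (58, 0)]⟩,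
  ⟨[(0, 2), (1, 2), (2, 3), (3, 4)], 3, -4, [(22, 0), (19, 0), (48, 0), (1, 0), (23, 0), (52, 0), (49, 0), (2, 0), (51, 0), (17, 0), (56, 0), (16, 0)]⟩,
  ⟨[(0, 2), (1, 2), (2, 3), (3, 4)], 2, -4, [(24, 0), (25, 0), (28, 0), (36, 0), (27, 0), (47, 0), (53, 0), (3, 0), (54, 0), (4, 0), (55, 0), (26, 0)]⟩,
  ⟨[(0, 2), (1, 2), (2, 3), (3, 4)], 0, -4, [(5, 0), (8, 0), (14, 0), (9, 0), (37, 0), (15, 0), (38, 0), (43, 0), (6, 0), (45, 0), (35, 0), (34, 0)]⟩,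
  ⟨[(0, 1), (1, 2), (2, 4), (3, 4)], 1, 4, [(37, 0), (38, 0), (46, 0), (45, 0), (52, 0), (1, 0), (47, 0), (3, 0), (0, 0), (49, 0), (58, 0), (54, 0)]⟩,
  ⟨[(2, 3), (3, 4)], 2, 4, [(9, 0), (39, 0), (41, 0), (48, 0), (40, 0), (49, 0), (42, 0), (0, 0), (38, 0), (8, 0), (56, 0), (7, 0)]⟩,
  ⟨[(0, 1), (1, 2), (2, 3), (3, 4)], 3, 4, [(12, 0), (32, 0), (36, 0), (0, 0), (41, 0), (45, 0), (47, 0), (10, 0), (50, 0), (43, 0), (55, 0), (8, 0)]⟩,
  ⟨[(0, 2), (1, 2), (2, 3), (3, 4)], 1, -4, [(12, 0), (13, 0), (20, 0), (18, 0), (29, 0), (30, 0), (40, 0), (41, 0), (21, 0), (33, 0), (50, 0), (42, 0)]⟩]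

/-- A certificate. -/
def e4xCert : List Inst := e4xCert0

theorem e4x_final : finalOK e4xSpec 0 e4xSeeds e4xCert 60 = true := by decide +kernel

/-- Words for the representatives. -/
def e4xGroupWords : List (List ℕ) := [
  [], [0], [1], [0, 0], [1, 0], [0, 1], [1, 1], [1, 0, 0], [0, 1, 0], [1, 1, 0], [0, 0, 1],
  [1, 0, 1], [0, 1, 1], [1, 1, 1], [0, 1, 0, 0], [1, 1, 0, 0], [0, 0, 1, 0], [1, 0, 1, 0],
  [1, 1, 1, 0], [1, 0, 0, 1], [0, 1, 0, 1], [1, 1, 0, 1], [0, 0, 1, 1], [1, 0, 1, 1],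
  [0, 1, 1, 1], [1, 1, 1, 1], [0, 0, 1, 0, 0], [1, 0, 1, 0, 0], [1, 0, 0, 1, 0],
  [0, 1, 0, 1, 0], [1, 1, 0, 1, 0], [0, 1, 1, 1, 0], [1, 1, 1, 1, 0], [1, 1, 0, 0, 1],
  [0, 0, 1, 0, 1], [1, 0, 1, 0, 1], [1, 1, 1, 0, 1], [1, 0, 0, 1, 1], [1, 0, 1, 1, 1],
  [0, 1, 1, 1, 1], [0, 1, 0, 1, 0, 0], [1, 1, 0, 1, 0, 0], [1, 1, 0, 0, 1, 0],
  [0, 0, 1, 0, 1, 0], [1, 1, 1, 0, 1, 0], [1, 0, 1, 1, 1, 0], [1, 0, 0, 1, 0, 1],
  [1, 1, 0, 1, 0, 1], [0, 1, 1, 1, 0, 1], [1, 1, 1, 1, 0, 1], [1, 0, 1, 1, 1, 1],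
  [1, 1, 1, 0, 1, 0, 0], [1, 0, 0, 1, 0, 1, 0], [0, 1, 1, 1, 0, 1, 0], [1, 1, 1, 1, 0, 1, 0],
  [1, 1, 0, 0, 1, 0, 1], [1, 1, 1, 0, 1, 0, 1], [0, 1, 1, 1, 0, 1, 0, 0],
  [1, 1, 1, 1, 0, 1, 0, 0], [1, 1, 0, 0, 1, 0, 1, 0]]

/-- The data of the space. -/
def e4pSpec : Spec where
  n := 12
  N := 25
  T := 0xb96a87530421b96a87524310b8a976530421b96a87514302b8a976524310b7a968530421b96a87504321b8a976514302b7a968524310b6a987530421b96a87543210b8a976504321b7a968514302b6a987524310ba9876530421b8a976543210b7a968504321b6a987514302ba9876524310b7a968543210b6a987504321ba9876514302b6a987543210ba9876504321ba9876543210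
  K := [
  (205163983024656, 1), (205163983020801, 1), (205163983024161, 1), (205099306856976, 1),
  (205155678302736, 1), (205163983012626, 1), (205099306853121, 1), (205155678298881, 1),
  (205163983020336, 1), (205163983024386, 1), (205099306856481, 1), (205155678302241, 1),
  (204962153116176, 1), (205091505451536, 1), (205159453176336, 1), (205163983016451, 1),
  (205163983016736, 1), (205099306844946, 1), (205155678290706, 1), (204962153112321, 1),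
  (205091505447681, 1), (205159453172481, 1), (205163983012401, 1), (205099306852656, 1),
  (205155678298416, 1), (205163983020051, 1), (205099306856706, 1), (205155678302466, 1),
  (204962153115681, 1), (205091505451041, 1), (205159453175841, 1), (205026325967376, 1),
  (205031107473936, 1), (204958378242576, 1), (205086723944976, 1), (205099306848771, 1),
  (205155678294531, 1), (205099306849056, 1), (205155678294816, 1), (204962153104146, 1),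
  (205091505439506, 1), (205159453164306, 1), (205026325963521, 1), (205031107470081, 1),
  (204958378238721, 1), (205086723941121, 1), (205163983015986, 1), (205099306844721, 1),
  (205155678290481, 1), (204962153111856, 1), (205091505447216, 1), (205159453172016, 1),
  (205163983012131, 1), (205099306852371, 1), (205155678298131, 1), (204962153115906, 1),
  (205091505451266, 1), (205159453176066, 1), (205026325966881, 1), (205031107473441, 1),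
  (204958378242081, 1), (205086723944481, 1), (205018524561936, 1), (204953848394256, 1),
  (204962153107971, 1), (205091505443331, 1), (205159453168131, 1), (204962153108256, 1),
  (205091505443616, 1), (205159453168416, 1), (205026325955346, 1), (205031107461906, 1),
  (204958378230546, 1), (205086723932946, 1), (205018524558081, 1), (204953848390401, 1),
  (205099306848306, 1), (205155678294066, 1), (204962153103921, 1), (205091505439281, 1),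
  (205159453164081, 1), (205026325963056, 1), (205031107469616, 1), (204958378238256, 1),
  (205086723940656, 1), (205099306844451, 1), (205155678290211, 1), (204962153111571, 1),
  (205091505446931, 1), (205159453171731, 1), (205026325967106, 1), (205031107473666, 1),
  (204958378242306, 1), (205086723944706, 1), (205018524561441, 1), (204953848393761, 1),
  (205026325959171, 1), (205031107465731, 1), (204958378234371, 1), (205086723936771, 1),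
  (205026325959456, 1), (205031107466016, 1), (204958378234656, 1), (205086723937056, 1),
  (205018524549906, 1), (204953848382226, 1), (204962153107506, 1), (205091505442866, 1),
  (205159453167666, 1), (205026325955121, 1), (205031107461681, 1), (204958378230321, 1),
  (205086723932721, 1), (205018524557616, 1), (204953848389936, 1), (204962153103651, 1),
  (205091505439011, 1), (205159453163811, 1), (205026325962771, 1), (205031107469331, 1),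
  (204958378237971, 1), (205086723940371, 1), (205018524561666, 1), (204953848393986, 1),
  (205018524553731, 1), (204953848386051, 1), (205018524554016, 1), (204953848386336, 1),
  (205026325958706, 1), (205031107465266, 1), (204958378233906, 1), (205086723936306, 1),
  (205018524549681, 1), (204953848382001, 1), (205026325954851, 1), (205031107461411, 1),
  (204958378230051, 1), (205086723932451, 1), (205018524557331, 1), (204953848389651, 1),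
  (205018524553266, 1), (204953848385586, 1), (205018524549411, 1), (204953848381731, 1)]

/-- Generators of the subgroup. -/
def e4pGens : List (List (ℕ × ℕ) × ℤ) := [
  ([(0, 1), (2, 3)], 1), ([(0, 1), (1, 2)], 1), ([(6, 7), (8, 9)], 1), ([(6, 7), (7, 8)], 1)]

/-- The enumeration of the subgroup. -/
def e4pSteps : List (ℕ × ℕ) := [
  (0, 0), (1, 0), (2, 0), (3, 0), (1, 1), (2, 1), (3, 1), (0, 2), (1, 2), (2, 2), (3, 2),
  (3, 3), (2, 4), (3, 4), (0, 5), (1, 5), (2, 5), (3, 5), (3, 6), (2, 7), (3, 7), (1, 8),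
  (2, 8), (3, 8), (0, 9), (2, 9), (3, 9), (3, 10), (2, 11), (3, 11), (2, 12), (3, 12), (3, 13),
  (2, 14), (2, 15), (3, 15), (2, 16), (3, 16), (3, 17), (2, 18), (3, 18), (2, 19), (3, 19),
  (3, 20), (2, 21), (1, 22), (2, 22), (3, 22), (3, 23), (2, 24), (3, 24), (1, 25), (2, 25),
  (3, 25), (3, 26), (2, 27), (3, 27), (2, 28), (3, 28), (3, 29), (2, 30), (3, 33), (3, 34),
  (3, 35), (2, 36), (3, 36), (3, 37), (2, 38), (3, 38), (2, 39), (3, 39), (3, 40), (2, 41),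
  (3, 44), (3, 45), (2, 46), (3, 46), (3, 47), (2, 48), (3, 48), (2, 49), (3, 49), (3, 50),
  (2, 51), (2, 52), (3, 52), (3, 53), (2, 54), (3, 54), (2, 55), (3, 55), (3, 56), (2, 57),
  (3, 60), (3, 61), (2, 64), (3, 64), (3, 65), (2, 66), (2, 67), (3, 67), (3, 68), (2, 69),
  (3, 72), (3, 73), (3, 76), (2, 77), (3, 77), (2, 78), (3, 78), (3, 79), (2, 80), (3, 83),
  (3, 84), (3, 85), (2, 86), (3, 86), (2, 87), (3, 87), (3, 88), (2, 89), (3, 92), (3, 93),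
  (3, 98), (3, 99), (3, 102), (3, 103), (2, 106), (3, 106), (3, 107), (2, 108), (3, 111),
  (3, 112), (2, 115), (3, 115), (3, 116), (2, 117), (3, 120), (3, 121), (3, 130), (3, 131),
  (3, 136), (3, 137)]

/-- Words for the representatives. -/
def e4pWords : List (List (ℕ × ℕ)) := [
  [], [(0, 1), (1, 2), (2, 3), (3, 4)], [(6, 7), (7, 8), (8, 9), (9, 10)],
  [(0, 2), (1, 2), (2, 3), (3, 4)],
  [(0, 1), (1, 2), (2, 3), (3, 4), (6, 7), (7, 8), (8, 9), (9, 10)],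
  [(6, 8), (7, 8), (8, 9), (9, 10)], [(2, 3), (3, 4)],
  [(0, 2), (1, 2), (2, 3), (3, 4), (6, 7), (7, 8), (8, 9), (9, 10)],
  [(0, 1), (1, 2), (2, 3), (3, 4), (6, 8), (7, 8), (8, 9), (9, 10)], [(8, 9), (9, 10)],
  [(0, 1), (1, 2), (2, 4), (3, 4)], [(2, 3), (3, 4), (6, 7), (7, 8), (8, 9), (9, 10)],
  [(0, 2), (1, 2), (2, 3), (3, 4), (6, 8), (7, 8), (8, 9), (9, 10)],
  [(0, 1), (1, 2), (2, 3), (3, 4), (8, 9), (9, 10)], [(6, 7), (7, 8), (8, 10), (9, 10)],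
  [(0, 1), (1, 2), (2, 4), (3, 4), (6, 7), (7, 8), (8, 9), (9, 10)],
  [(2, 3), (3, 4), (6, 8), (7, 8), (8, 9), (9, 10)],
  [(0, 2), (1, 2), (2, 3), (3, 4), (8, 9), (9, 10)],
  [(0, 1), (1, 2), (2, 3), (3, 4), (6, 7), (7, 8), (8, 10), (9, 10)],
  [(0, 1), (1, 2), (2, 4), (3, 4), (6, 8), (7, 8), (8, 9), (9, 10)],
  [(2, 3), (3, 4), (8, 9), (9, 10)],
  [(0, 2), (1, 2), (2, 3), (3, 4), (6, 7), (7, 8), (8, 10), (9, 10)],
  [(0, 1), (1, 2), (2, 4), (3, 4), (8, 9), (9, 10)],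
  [(2, 3), (3, 4), (6, 7), (7, 8), (8, 10), (9, 10)],
  [(0, 1), (1, 2), (2, 4), (3, 4), (6, 7), (7, 8), (8, 10), (9, 10)]]

theorem e4p_K : e4pSpec.K = closeK 12 e4pGens e4pSteps [(idCode 12, 1)] := by decide +kernel

theorem e4p_tbl : e4pSpec.tblOK e4pWords = true := by decide +kernel

theorem e4p_gens : e4pGens.all (fun g => wordOK 12 g.1) = true := by decide +kernel

/-- Seed relations. -/
def e4pSeeds : List (List (ℕ × ℤ)) := [
  [(0, 1), (1, 1), (3, 1), (6, 1), (10, 1)], [(0, 1), (4, 1), (12, 1), (20, 1), (24, 1)],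
  [(0, 1), (7, 1), (8, 1), (20, 1), (24, 1)],
  [(0, -12), (2, -12), (5, -12), (9, -12), (14, -12)]]

/-- Invariance data. -/
def e4pFix0 : List (List (ℕ × ℕ) × List (ℕ × ℕ) × List Inst) := [
  ([(0, 1), (1, 2)], [(0, 2), (3, 0), (6, 0), (1, 0), (10, 22)], []),
  ([(0, 1), (1, 2), (2, 3), (3, 4)], [(1, 0), (3, 16), (6, 5), (10, 0), (0, 46)], [])]

theorem e4p_fix0 :
    fixOK e4pSpec 0 [] (e4pSeeds.getD 0 []) e4pFix0 = true ∧
      e4pFix0.map Prod.fst = gA := by decide +kernel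

/-- Invariance data. -/
def e4pFix1 : List (List (ℕ × ℕ) × List (ℕ × ℕ) × List Inst) := [
  ([(0, 1), (1, 2), (6, 7), (7, 8)], [(0, 11), (12, 0), (20, 0), (4, 0), (24, 111)], []),
  ([(0, 1), (1, 2), (2, 3), (3, 4), (6, 7), (7, 8), (8, 9), (9, 10)], [(4, 0), (12, 101), (20, 39), (24, 0), (0, 140)], [])]

theorem e4p_fix1 :
    fixOK e4pSpec 0 [] (e4pSeeds.getD 1 []) e4pFix1 = true ∧
      e4pFix1.map Prod.fst = gD0 := by decide +kernel

/-- Invariance data. -/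
def e4pFix2 : List (List (ℕ × ℕ) × List (ℕ × ℕ) × List Inst) := [
  ([(0, 1), (1, 2), (6, 8), (7, 8)], [(0, 30), (20, 0), (7, 0), (8, 0), (24, 109)], []),
  ([(0, 1), (1, 2), (2, 3), (3, 4), (6, 8), (7, 8), (8, 9), (9, 10)], [(8, 0), (20, 71), (7, 67), (24, 33), (0, 107)], [])]

theorem e4p_fix2 :
    fixOK e4pSpec 0 [] (e4pSeeds.getD 2 []) e4pFix2 = true ∧
      e4pFix2.map Prod.fst = gD1 := by decide +kernel

/-- Images. -/
def e4pJs3 : List (ℕ × ℕ) := [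
  (0, 0), (9, 0), (14, 31), (0, 32), (5, 3), (0, 13), (5, 4), (9, 13), (14, 63), (0, 4), (2, 0),
  (14, 0), (9, 4), (0, 33), (2, 32), (14, 32), (2, 13), (9, 33), (0, 14), (5, 0), (14, 33),
  (0, 12), (2, 3), (2, 4), (5, 32), (14, 4), (2, 33), (9, 14), (0, 31), (5, 12), (0, 34),
  (2, 14), (5, 14), (2, 12), (9, 62), (2, 62), (14, 62), (5, 34), (9, 31), (9, 34), (14, 14),
  (14, 12), (5, 31), (5, 63), (9, 63)]

theorem e4p_op3 :
    opImgOK e4pSpec 0 e4q e4pJs3 = true ∧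
      eqCoef e4pSpec.N 0 (e4pSeeds.getD 3 []) (opRel e4pSpec 0 e4q e4pJs3 60) = true := by decide +kernel

/-- A part of a certificate. -/
def e4pCert0 : List Inst := [
  ⟨[], 0, 12, [(0, 0), (1, 0), (3, 0), (6, 0), (10, 0)]⟩,
  ⟨[(0, 1), (1, 2)], 2, 24, [(0, 2), (11, 0), (12, 0), (13, 0), (24, 22)]⟩,
  ⟨[(0, 3), (2, 4)], 1, 12, [(6, 5), (15, 16), (12, 52), (9, 25), (18, 8)]⟩,
  ⟨[(0, 2), (1, 3), (2, 3), (3, 4), (6, 7), (7, 8), (8, 9), (9, 10)], 1, 24, [(4, 2), (16, 71), (22, 12), (21, 16), (0, 138)]⟩,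
  ⟨[(0, 3), (1, 4), (6, 8), (7, 9), (8, 10), (9, 10)], 2, -24, [(12, 129), (9, 140), (24, 39), (6, 140), (4, 138)]⟩,
  ⟨[(0, 2), (3, 4)], 1, -12, [(10, 1), (11, 1), (12, 1), (13, 1), (14, 1)]⟩,
  ⟨[(0, 1), (1, 3), (2, 3), (3, 4), (6, 7), (7, 8), (8, 9), (9, 10)], 1, -12, [(11, 2), (12, 71), (22, 64), (18, 16), (0, 124)]⟩,
  ⟨[(0, 4), (2, 3)], 1, 12, [(1, 15), (2, 22), (12, 46), (22, 9), (23, 2)]⟩,
  ⟨[(6, 9), (7, 10), (8, 10), (9, 10)], 2, -24, [(2, 62), (21, 14), (1, 33), (16, 62), (22, 34)]⟩,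
  ⟨[(0, 2), (1, 2), (6, 8), (7, 9), (8, 10), (9, 10)], 2, -12, [(5, 91), (13, 62), (23, 12), (3, 62), (15, 124)]⟩,
  ⟨[], 3, -1, [(0, 0), (2, 0), (5, 0), (9, 0), (14, 0)]⟩]

/-- A certificate. -/
def e4pCert : List Inst := e4pCert0

theorem e4p_final : finalOK e4pSpec 0 e4pSeeds e4pCert 60 = true := by decide +kernel

/-- The data of the space. -/
def e4wSpec : Spec where
  n := 12
  N := 30
  T := 0xba9876453201ba9876354210ba9876513204ba9876520134ba9876342105ba9876243150ba9876143205ba9876503124ba9876410523ba9876231504ba9876042153ba9876132540ba9876201543ba9876532104ba9876402513ba9876125403ba9876432150ba9876302541ba9876031542ba9876105432ba9876421503ba9876015423ba9876321540ba9876025431ba9876315402ba9876054312ba9876215430ba9876254301ba9876154320ba9876543210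
  K := [
  (205163983024656, 1), (205163983020801, 1), (205163983024161, 1), (205163983012626, 1),
  (205163983020336, 1), (205163983024386, 1), (205163983016451, 1), (205163983016736, 1),
  (205163983012401, 1), (205163983020051, 1), (205163983015986, 1), (205163983012131, 1)]

/-- Generators of the subgroup. -/
def e4wGens : List (List (ℕ × ℕ) × ℤ) := [
  ([(0, 1), (2, 3)], 1), ([(0, 1), (1, 2)], 1)]

/-- The enumeration of the subgroup. -/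
def e4wSteps : List (ℕ × ℕ) := [
  (0, 0), (1, 0), (1, 1), (0, 2), (1, 2), (0, 3), (1, 3), (1, 4), (0, 5), (1, 8), (1, 9)]

/-- Words for the representatives. -/
def e4wWords : List (List (ℕ × ℕ)) := [
  [], [(1, 2), (2, 3), (3, 4), (4, 5)], [(0, 1), (2, 3), (3, 4), (4, 5)],
  [(1, 3), (2, 4), (3, 5), (4, 5)], [(0, 2), (2, 3), (3, 4), (4, 5)],
  [(0, 2), (1, 2), (2, 4), (3, 5)], [(0, 1), (1, 3), (2, 4), (3, 5)],
  [(1, 4), (2, 5), (3, 4), (4, 5)], [(0, 3), (1, 2), (2, 4), (3, 5)],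
  [(0, 3), (1, 3), (2, 5), (4, 5)], [(0, 2), (1, 3), (2, 4), (3, 5)],
  [(0, 2), (1, 4), (2, 5), (3, 4)], [(0, 1), (1, 4), (2, 5), (3, 5)],
  [(1, 5), (2, 5), (3, 5), (4, 5)], [(0, 3), (1, 3), (2, 4), (3, 5)],
  [(0, 3), (2, 5), (3, 5), (4, 5)], [(0, 4), (1, 4), (2, 4), (3, 4)],
  [(0, 3), (1, 4), (2, 5), (3, 4)], [(1, 4), (2, 5), (3, 5), (4, 5)],
  [(0, 3), (1, 5), (2, 5), (3, 5)], [(0, 4), (1, 4), (2, 5), (3, 4)],
  [(0, 3), (1, 2), (2, 5), (4, 5)], [(0, 4), (1, 2)], [(0, 5), (1, 5)], [(1, 5), (2, 5)],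
  [(0, 5), (1, 5), (2, 5), (3, 5)], [(0, 4), (1, 3), (2, 3), (3, 4)], [(0, 4), (1, 4)],
  [(3, 4), (4, 5)], [(0, 1), (4, 5)]]

theorem e4w_K : e4wSpec.K = closeK 12 e4wGens e4wSteps [(idCode 12, 1)] := by decide +kernel

theorem e4w_tbl : e4wSpec.tblOK e4wWords = true := by decide +kernel

theorem e4w_gens : e4wGens.all (fun g => wordOK 12 g.1) = true := by decide +kernel

/-- Seed relations. -/
def e4wSeeds : List (List (ℕ × ℤ)) := [
  [(0, 1), (16, 1), (22, 1), (26, 1), (27, 1)], [(1, 1), (2, 1), (4, 1), (28, 1), (29, 1)],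
  [(0, -36), (1, -4), (2, -4), (3, -8), (5, -8), (7, -8), (9, -4), (13, -4), (14, -8), (16, 8), (18, -8), (20, -8), (21, -4), (23, 8), (24, 8), (25, 8), (26, 8), (27, 8), (28, -4)],
  [(0, -12), (19, -12), (23, -12), (24, -12), (25, -12)],
  [(0, -12), (16, -12), (22, -12), (26, -12), (27, -12)]]

/-- Invariance data. -/
def e4wFix0 : List (List (ℕ × ℕ) × List (ℕ × ℕ) × List Inst) := [
  ([(0, 1), (1, 2)], [(0, 2), (16, 7), (27, 0), (22, 4), (26, 7)], []),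
  ([(0, 1), (1, 2), (2, 3), (3, 4)], [(22, 3), (0, 0), (27, 8), (16, 1), (26, 11)], [])]

theorem e4w_fix0 :
    fixOK e4wSpec 0 [] (e4wSeeds.getD 0 []) e4wFix0 = true ∧
      e4wFix0.map Prod.fst = gA := by decide +kernel

/-- Invariance data. -/
def e4wFix1 : List (List (ℕ × ℕ) × List (ℕ × ℕ) × List Inst) := [
  ([(0, 1), (1, 2)], [(2, 0), (4, 0), (1, 0), (28, 2), (29, 5)], []),
  ([(0, 1), (1, 2), (2, 3), (3, 4)], [(2, 7), (28, 3), (1, 3), (29, 7), (4, 0)], [])]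

theorem e4w_fix1 :
    fixOK e4wSpec 0 [] (e4wSeeds.getD 1 []) e4wFix1 = true ∧
      e4wFix1.map Prod.fst = gA := by decide +kernel

/-- Images. -/
def e4wJs2 : List (ℕ × ℕ) := [
  (0, 0), (27, 8), (16, 1), (0, 4), (26, 6), (0, 7), (26, 11), (27, 2), (16, 2), (24, 0),
  (2, 2), (20, 1), (3, 4), (24, 7), (2, 8), (20, 2), (2, 1), (3, 0), (23, 2), (14, 1), (18, 0),
  (23, 8), (1, 4), (1, 0), (14, 2), (18, 4), (1, 7), (5, 1), (25, 2), (7, 0), (25, 1), (28, 0),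
  (7, 7), (28, 4), (5, 8), (28, 7), (13, 4), (9, 8), (21, 6), (21, 11), (13, 7), (13, 0),
  (9, 1), (9, 2), (21, 9)]

theorem e4w_op2 :
    opImgOK e4wSpec 0 e4s0 e4wJs2 = true ∧
      eqCoef e4wSpec.N 0 (e4wSeeds.getD 2 []) (opRel e4wSpec 0 e4s0 e4wJs2 60) = true := by decide +kernel

/-- Images. -/
def e4wJs3 : List (ℕ × ℕ) := [
  (0, 0), (24, 7), (25, 2), (0, 3), (19, 11), (0, 9), (19, 7), (24, 2), (25, 7), (0, 5),
  (23, 3), (25, 9), (24, 6), (0, 6), (23, 9), (25, 0), (23, 0), (24, 1), (0, 2), (19, 10),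
  (25, 10), (0, 7), (23, 2), (23, 11), (19, 4), (25, 4), (23, 7), (24, 10), (0, 8), (19, 5),
  (0, 4), (23, 8), (19, 6), (23, 10), (24, 8), (23, 4), (25, 5), (19, 3), (24, 3), (24, 0),
  (25, 1), (25, 6), (19, 9), (19, 0), (24, 9)]

theorem e4w_op3 :
    opImgOK e4wSpec 0 e4s4 e4wJs3 = true ∧
      eqCoef e4wSpec.N 0 (e4wSeeds.getD 3 []) (opRel e4wSpec 0 e4s4 e4wJs3 60) = true := by decide +kernel

/-- Images. -/
def e4wJs4 : List (ℕ × ℕ) := [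
  (0, 0), (26, 11), (16, 2), (0, 7), (27, 2), (0, 4), (27, 8), (26, 6), (16, 1), (0, 2),
  (22, 3), (16, 10), (26, 3), (0, 8), (22, 10), (16, 5), (22, 5), (26, 5), (0, 5), (27, 3),
  (16, 9), (0, 3), (22, 2), (22, 8), (27, 10), (16, 6), (22, 1), (26, 8), (0, 6), (27, 9),
  (0, 9), (22, 11), (27, 11), (22, 9), (26, 1), (22, 6), (16, 0), (27, 0), (26, 4), (26, 7),
  (16, 7), (16, 4), (27, 7), (27, 4), (26, 0)]

theorem e4w_op4 :
    opImgOK e4wSpec 0 e4 e4wJs4 = true ∧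
      eqCoef e4wSpec.N 0 (e4wSeeds.getD 4 []) (opRel e4wSpec 0 e4 e4wJs4 60) = true := by decide +kernel

/-- A part of a certificate. -/
def e4wCert0 : List Inst := [
  ⟨[], 4, -6679, [(0, 0), (16, 0), (22, 0), (26, 0), (27, 0)]⟩,
  ⟨[], 3, 122, [(0, 0), (19, 0), (23, 0), (24, 0), (25, 0)]⟩,
  ⟨[(0, 4), (1, 4)], 2, -4154, [(27, 0), (4, 6), (2, 8), (17, 1), (12, 9), (7, 8), (14, 7), (18, 2), (6, 2), (16, 5), (11, 8), (20, 6), (10, 1), (8, 11), (3, 10), (5, 11), (26, 3), (22, 5), (28, 6)]⟩,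
  ⟨[(0, 2), (1, 3), (2, 4), (3, 5)], 3, 688, [(10, 0), (17, 10), (12, 4), (15, 9), (22, 3)]⟩,
  ⟨[(0, 2), (2, 3), (3, 4), (4, 5)], 4, 39, [(4, 0), (19, 8), (6, 9), (11, 3), (8, 9)]⟩,
  ⟨[(0, 1), (2, 3), (3, 4), (4, 5)], 4, -1095, [(2, 0), (24, 2), (3, 9), (20, 5), (17, 10)]⟩,
  ⟨[(1, 2), (2, 3), (3, 4), (4, 5)], 3, -4530, [(1, 0), (4, 9), (2, 0), (28, 0), (29, 0)]⟩,
  ⟨[(1, 2), (2, 3), (3, 4), (4, 5)], 0, -26196, [(1, 0), (23, 0), (10, 9), (18, 3), (14, 9)]⟩,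
  ⟨[(1, 2), (2, 3), (3, 4), (4, 5)], 1, -33984, [(3, 0), (5, 0), (8, 0), (21, 9), (27, 3)]⟩,
  ⟨[(0, 1), (2, 3), (3, 4), (4, 5)], 1, 5352, [(6, 0), (7, 4), (14, 0), (9, 9), (26, 11)]⟩,
  ⟨[(0, 3), (1, 3), (2, 5), (4, 5)], 0, -11676, [(9, 0), (21, 1), (13, 9), (29, 5), (15, 6)]⟩,
  ⟨[(0, 2), (1, 4), (2, 5), (3, 4)], 3, 649, [(11, 0), (20, 9), (13, 4), (16, 9), (18, 4)]⟩,
  ⟨[(0, 3), (1, 2), (3, 4), (4, 5)], 2, 3442, [(4, 5), (17, 4), (10, 0), (14, 7), (9, 6), (21, 7), (27, 4), (0, 6), (3, 3), (19, 1), (24, 9), (23, 4), (26, 7), (2, 2), (1, 5), (29, 8), (8, 11), (6, 9), (15, 4)]⟩,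
  ⟨[(0, 2), (1, 4), (2, 4), (3, 4)], 2, -5729, [(16, 6), (29, 5), (1, 9), (23, 3), (19, 10), (8, 1), (5, 1), (12, 11), (21, 9), (22, 9), (15, 6), (10, 1), (25, 2), (13, 8), (18, 11), (11, 5), (27, 9), (0, 11), (4, 4)]⟩,
  ⟨[(1, 4), (2, 5), (3, 4), (4, 5)], 2, 2286, [(7, 0), (13, 0), (16, 0), (0, 0), (23, 0), (1, 0), (2, 0), (3, 0), (29, 0), (5, 0), (21, 9), (27, 3), (24, 3), (9, 0), (26, 9), (14, 0), (28, 3), (25, 9), (18, 0)]⟩,
  ⟨[(0, 2), (2, 3), (3, 4), (4, 5)], 2, -2469, [(4, 0), (10, 0), (12, 4), (5, 7), (21, 0), (13, 9), (16, 4), (0, 5), (18, 8), (19, 8), (23, 5), (25, 4), (27, 4), (1, 0), (28, 5), (29, 2), (11, 3), (8, 9), (15, 9)]⟩,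
  ⟨[(0, 3), (2, 3)], 2, -2418, [(0, 9), (1, 5), (4, 2), (8, 0), (3, 0), (17, 0), (15, 6), (9, 7), (10, 0), (26, 0), (14, 7), (6, 3), (21, 8), (23, 4), (19, 0), (24, 8), (22, 0), (27, 4), (2, 5)]⟩,
  ⟨[(0, 3), (3, 4)], 2, -2031, [(22, 11), (1, 3), (2, 7), (3, 2), (21, 1), (9, 0), (6, 3), (19, 0), (14, 5), (0, 4), (23, 9), (24, 4), (8, 3), (10, 9), (17, 7), (15, 5), (26, 6), (27, 8), (29, 6)]⟩,
  ⟨[(0, 5), (1, 5), (2, 4), (3, 4)], 2, -6068, [(18, 5), (8, 11), (21, 11), (15, 10), (17, 2), (24, 8), (25, 6), (7, 10), (19, 9), (14, 4), (6, 9), (9, 7), (12, 9), (11, 11), (13, 2), (20, 11), (23, 11), (10, 8), (3, 6)]⟩,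
  ⟨[(0, 5), (1, 2), (2, 4), (3, 4)], 2, -8671, [(11, 5), (17, 3), (15, 11), (9, 10), (14, 10), (23, 4), (25, 5), (5, 9), (24, 3), (8, 4), (3, 9), (21, 7), (7, 9), (20, 2), (13, 1), (18, 7), (19, 7), (6, 8), (10, 6)]⟩,
  ⟨[(0, 4), (1, 5), (3, 5), (4, 5)], 2, 11676, [(11, 2), (22, 0), (17, 3), (2, 6), (1, 8), (14, 5), (7, 9), (5, 3), (26, 5), (8, 7), (27, 4), (3, 2), (28, 2), (16, 1), (20, 0), (18, 0), (6, 1), (4, 10), (10, 10)]⟩,
  ⟨[(0, 1), (2, 3), (3, 4), (4, 5)], 2, 185, [(2, 0), (6, 0), (7, 4), (12, 0), (15, 0), (13, 3), (16, 7), (0, 2), (11, 8), (24, 2), (19, 3), (25, 7), (22, 4), (4, 0), (28, 2), (29, 5), (20, 5), (17, 10), (9, 9)]⟩,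
  ⟨[(0, 3), (1, 2), (2, 5), (4, 5)], 2, 3137, [(21, 0), (24, 9), (0, 10), (26, 8), (6, 9), (4, 3), (1, 7), (10, 2), (2, 2), (15, 1), (17, 4), (22, 10), (14, 8), (3, 3), (27, 6), (8, 5), (29, 0), (9, 6), (19, 4)]⟩,
  ⟨[(0, 1), (1, 4), (2, 5), (3, 4)], 2, 2973, [(20, 6), (9, 11), (26, 7), (0, 1), (19, 2), (4, 2), (28, 0), (12, 4), (29, 1), (17, 4), (15, 1), (22, 11), (25, 1), (13, 11), (16, 10), (11, 4), (2, 3), (24, 11), (6, 7)]⟩,
  ⟨[(0, 1), (1, 5), (2, 4), (3, 4)], 2, -2973, [(11, 11), (22, 5), (15, 3), (29, 7), (2, 6), (24, 10), (25, 11), (7, 6), (0, 3), (6, 1), (26, 3), (9, 4), (28, 10), (16, 2), (13, 5), (20, 8), (19, 4), (4, 3), (17, 11)]⟩,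
  ⟨[(0, 1), (1, 4), (2, 4), (3, 4)], 2, 10677, [(16, 5), (29, 0), (4, 9), (19, 10), (24, 7), (17, 6), (12, 6), (7, 11), (15, 9), (26, 2), (9, 6), (6, 1), (25, 9), (13, 2), (11, 11), (20, 10), (22, 9), (0, 9), (2, 4)]⟩,
  ⟨[(0, 5), (1, 3), (2, 5), (4, 5)], 2, 2765, [(9, 5), (25, 0), (19, 0), (11, 10), (18, 7), (10, 6), (17, 11), (3, 11), (12, 7), (21, 2), (5, 6), (8, 8), (20, 9), (7, 2), (6, 11), (14, 10), (15, 9), (13, 9), (23, 4)]⟩,
  ⟨[(0, 5), (2, 3)], 2, -5112, [(19, 2), (10, 9), (12, 7), (5, 6), (3, 8), (20, 5), (13, 9), (9, 3), (18, 11), (6, 10), (14, 11), (7, 2), (21, 1), (23, 1), (25, 0), (24, 0), (11, 1), (8, 10), (17, 10)]⟩,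
  ⟨[(0, 2), (1, 5)], 2, 124, [(23, 5), (27, 3), (8, 9), (4, 7), (28, 7), (12, 9), (15, 4), (13, 11), (22, 9), (18, 8), (16, 6), (11, 1), (29, 9), (0, 2), (19, 11), (25, 10), (10, 3), (1, 9), (5, 4)]⟩,
  ⟨[(0, 2), (1, 5), (2, 4), (3, 4)], 2, 5824, [(18, 11), (27, 5), (21, 3), (29, 3), (4, 6), (19, 6), (25, 8), (12, 6), (0, 7), (10, 1), (22, 8), (15, 4), (28, 4), (16, 10), (13, 11), (11, 6), (23, 9), (1, 3), (8, 8)]⟩]

/-- A certificate. -/
def e4wCert : List Inst := e4wCert0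

theorem e4w_final : finalOK e4wSpec 0 e4wSeeds e4wCert 108000 = true := by decide +kernel

end Cfsg.Agent.Solv.AltSec.Seven
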