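import Cfsg.Agent.Lib.Solv.AltSec.Seven.DataOps

/-!
Certificate data for the alternating group of degree twelve.
-/

set_option autoImplicit false

namespace Cfsg.Agent.Solv.AltSec.Seven

/-- An element of the group ring. -/
def e5qW : List (List (ℕ × ℕ) × ℤ) := [
  ([], 25), ([(8, 9), (9, 10)], -5), ([(8, 10), (9, 10)], -5), ([(7, 8), (9, 10)], 5),
  ([(7, 8), (8, 9)], -5), ([(7, 8), (8, 10)], -5), ([(7, 9), (8, 9)], -5),
  ([(7, 9), (9, 10)], -5), ([(7, 9), (8, 10)], 5), ([(7, 10), (8, 10)], -5),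
  ([(7, 10), (9, 10)], -5), ([(7, 10), (8, 9)], 5), ([(6, 7), (9, 10)], 5),
  ([(6, 7), (8, 9)], 5), ([(6, 7), (8, 10)], 5), ([(6, 7), (7, 8)], -5), ([(6, 7), (7, 9)], -5),
  ([(6, 7), (7, 10)], -5), ([(6, 8), (7, 8)], -5), ([(6, 8), (9, 10)], 5),
  ([(6, 8), (8, 9)], -5), ([(6, 8), (8, 10)], -5), ([(6, 8), (7, 9)], 5),
  ([(6, 8), (7, 10)], 5), ([(6, 9), (7, 9)], -5), ([(6, 9), (8, 9)], -5),
  ([(6, 9), (9, 10)], -5), ([(6, 9), (8, 10)], 5), ([(6, 9), (7, 8)], 5),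
  ([(6, 9), (7, 10)], 5), ([(6, 10), (7, 10)], -5), ([(6, 10), (8, 10)], -5),
  ([(6, 10), (9, 10)], -5), ([(6, 10), (8, 9)], 5), ([(6, 10), (7, 8)], 5),
  ([(6, 10), (7, 9)], 5)]

/-- An element of the group ring. -/
def e5q : List (ℕ × ℤ) := ofWords 12 e5qW

theorem e5q_evn : Evns 12 e5q := evns_ofWords (by norm_num) (by decide +kernel)

/-- The data of the space. -/
def e5xSpec : Spec where
  n := 12
  N := 60
  T := 0xba9876534012ba9876503412ba9876540312ba9876534201ba9876534120ba9876503124ba9876540123ba9876523401ba9876542301ba9876541320ba9876503241ba9876540231ba9876523140ba9876523014ba9876513420ba9876542013ba9876512340ba9876541203ba9876531240ba9876501234ba9876530214ba9876513204ba9876513042ba9876542130ba9876512034ba9876512403ba9876541032ba9876532410ba9876502314ba9876531402ba9876501342ba9876530142ba9876520134ba9876524103ba9876532104ba9876502143ba9876532041ba9876502431ba9876531024ba9876501423ba9876530421ba9876521304ba9876520341ba9876524031ba9876510324ba9876514023ba9876521043ba9876521430ba9876520413ba9876524310ba9876510243ba9876514230ba9876504213ba9876510432ba9876514302ba9876504132ba9876543102ba9876504321ba9876543021ba9876543210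
  K := [
  (205163983024656, 1)]

/-- Generators of the subgroup. -/
def e5xGens : List (List (ℕ × ℕ) × ℤ) := [
]

/-- The enumeration of the subgroup. -/
def e5xSteps : List (ℕ × ℕ) := [
]

/-- Words for the representatives. -/
def e5xWords : List (List (ℕ × ℕ)) := [
  [], [(0, 1), (1, 2)], [(0, 1), (1, 2), (2, 3), (3, 4)], [(0, 2), (1, 2)],
  [(0, 2), (1, 3), (2, 3), (3, 4)], [(0, 2), (1, 2), (2, 3), (3, 4)],
  [(0, 2), (1, 3), (2, 4), (3, 4)], [(0, 3), (3, 4)], [(1, 3), (3, 4)], [(0, 3), (1, 4)],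
  [(2, 3), (3, 4)], [(0, 3), (2, 4)], [(1, 3), (2, 4)], [(0, 3), (1, 4), (2, 3), (3, 4)],
  [(0, 3), (1, 2), (2, 3), (3, 4)], [(0, 4), (1, 2), (2, 3), (3, 4)],
  [(0, 1), (1, 3), (2, 3), (3, 4)], [(0, 1), (1, 4), (2, 3), (3, 4)],
  [(0, 4), (1, 4), (2, 3), (3, 4)], [(0, 1), (1, 2), (2, 4), (3, 4)],
  [(0, 3), (1, 2), (2, 4), (3, 4)], [(0, 4), (1, 2), (2, 4), (3, 4)],
  [(0, 1), (1, 3), (2, 4), (3, 4)], [(0, 1), (1, 4), (2, 4), (3, 4)],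
  [(0, 3), (1, 4), (2, 4), (3, 4)], [(0, 4), (1, 4), (2, 4), (3, 4)],
  [(0, 3), (1, 3), (2, 3), (3, 4)], [(0, 4), (1, 3), (2, 3), (3, 4)],
  [(0, 2), (1, 4), (2, 4), (3, 4)], [(0, 2), (1, 4), (2, 3), (3, 4)],
  [(0, 2), (1, 2), (2, 4), (3, 4)], [(0, 4), (2, 3)], [(2, 4), (3, 4)], [(0, 2), (1, 3)],
  [(0, 3), (1, 3), (2, 4), (3, 4)], [(0, 4), (1, 3), (2, 4), (3, 4)], [(1, 3), (2, 3)],
  [(0, 2), (1, 4)], [(0, 4), (1, 4)], [(0, 4), (3, 4)], [(0, 4), (1, 3)], [(1, 4), (3, 4)],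
  [(0, 3), (1, 3)], [(1, 4), (2, 3)], [(0, 3), (2, 3)], [(1, 2), (2, 4)], [(0, 4), (2, 4)],
  [(1, 4), (2, 4)], [(0, 1), (1, 3)], [(0, 1), (1, 4)], [(1, 2), (2, 3)], [(0, 1), (2, 3)],
  [(0, 1), (2, 4)], [(0, 3), (1, 2)], [(0, 4), (1, 2)], [(1, 2), (3, 4)], [(0, 1), (3, 4)],
  [(0, 2), (2, 3)], [(0, 2), (2, 4)], [(0, 2), (3, 4)]]

theorem e5x_K : e5xSpec.K = closeK 12 e5xGens e5xSteps [(idCode 12, 1)] := by decide +kernel

theorem e5x_tbl : e5xSpec.tblOK e5xWords = true := by decide +kernel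

theorem e5x_gens : e5xGens.all (fun g => wordOK 12 g.1) = true := by decide +kernel

/-- Seed relations. -/
def e5xSeeds : List (List (ℕ × ℤ)) := [
  [(0, 1), (2, 1), (6, 1), (13, 1), (25, 1), (40, 1), (43, 1), (52, 1), (53, 1), (59, 1)],
  [(1, 1), (4, 1), (9, 1), (18, 1), (20, 1), (32, 1), (35, 1), (47, 1), (56, 1), (57, 1)],
  [(3, 1), (7, 1), (12, 1), (15, 1), (23, 1), (29, 1), (34, 1), (46, 1), (48, 1), (55, 1)],
  [(5, 1), (11, 1), (16, 1), (21, 1), (28, 1), (31, 1), (36, 1), (42, 1), (45, 1), (49, 1)],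
  [(8, 1), (17, 1), (22, 1), (26, 1), (30, 1), (37, 1), (39, 1), (44, 1), (50, 1), (54, 1)],
  [(10, 1), (14, 1), (19, 1), (24, 1), (27, 1), (33, 1), (38, 1), (41, 1), (51, 1), (58, 1)],
  [(0, -35), (1, -5), (3, -5), (7, -5), (8, -5), (9, 5), (10, -5), (11, 5), (12, 5), (31, 5), (32, -5), (33, 5), (36, -5), (37, 5), (38, -5), (39, -5), (40, 5), (41, -5), (42, -5), (43, 5), (44, -5), (45, -5), (46, -5), (47, -5), (48, -5), (49, -5), (50, -5), (51, 5), (52, 5), (53, 5), (54, 5), (55, 5), (56, 5), (57, -5), (58, -5), (59, 5)]]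

/-- Eigenvector data. -/
def e5xEig0 : List (List (ℕ × ℕ) × List (ℕ × ℕ) × ℤ) := [
  ([(0, 1), (1, 2), (2, 3), (3, 4)], [(2, 0), (6, 0), (13, 0), (25, 0), (0, 0), (43, 0), (52, 0), (59, 0), (40, 0), (53, 0)], 1),
  ([(1, 4), (2, 3)], [(43, 0), (40, 0), (53, 0), (59, 0), (52, 0), (2, 0), (0, 0), (25, 0), (6, 0), (13, 0)], 1)]

/-- Eigenvector data. -/
def e5xEig1 : List (List (ℕ × ℕ) × List (ℕ × ℕ) × ℤ) := [
  ([(0, 1), (1, 2), (2, 3), (3, 4)], [(4, 0), (9, 0), (18, 0), (32, 0), (35, 0), (1, 0), (47, 0), (56, 0), (57, 0), (20, 0)], 1),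
  ([(1, 4), (2, 3)], [(35, 0), (20, 0), (57, 0), (56, 0), (4, 0), (47, 0), (1, 0), (32, 0), (18, 0), (9, 0)], 1)]

/-- Eigenvector data. -/
def e5xEig2 : List (List (ℕ × ℕ) × List (ℕ × ℕ) × ℤ) := [
  ([(0, 1), (1, 2), (2, 3), (3, 4)], [(7, 0), (15, 0), (23, 0), (12, 0), (3, 0), (34, 0), (46, 0), (55, 0), (29, 0), (48, 0)], 1),
  ([(1, 4), (2, 3)], [(34, 0), (29, 0), (55, 0), (48, 0), (46, 0), (7, 0), (3, 0), (23, 0), (15, 0), (12, 0)], 1)]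

/-- Eigenvector data. -/
def e5xEig3 : List (List (ℕ × ℕ) × List (ℕ × ℕ) × ℤ) := [
  ([(0, 1), (1, 2), (2, 3), (3, 4)], [(11, 0), (21, 0), (28, 0), (36, 0), (42, 0), (45, 0), (49, 0), (31, 0), (16, 0), (5, 0)], 1),
  ([(1, 4), (2, 3)], [(42, 0), (28, 0), (21, 0), (16, 0), (11, 0), (49, 0), (45, 0), (5, 0), (36, 0), (31, 0)], 1)]

/-- Eigenvector data. -/
def e5xEig4 : List (List (ℕ × ℕ) × List (ℕ × ℕ) × ℤ) := [
  ([(0, 1), (1, 2), (2, 3), (3, 4)], [(17, 0), (30, 0), (37, 0), (39, 0), (44, 0), (26, 0), (50, 0), (54, 0), (22, 0), (8, 0)], 1),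
  ([(1, 4), (2, 3)], [(50, 0), (39, 0), (54, 0), (30, 0), (26, 0), (44, 0), (17, 0), (37, 0), (8, 0), (22, 0)], 1)]

/-- Eigenvector data. -/
def e5xEig5 : List (List (ℕ × ℕ) × List (ℕ × ℕ) × ℤ) := [
  ([(0, 1), (1, 2), (2, 3), (3, 4)], [(19, 0), (27, 0), (33, 0), (38, 0), (41, 0), (24, 0), (10, 0), (51, 0), (58, 0), (14, 0)], 1),
  ([(1, 4), (2, 3)], [(41, 0), (33, 0), (27, 0), (58, 0), (19, 0), (14, 0), (51, 0), (10, 0), (38, 0), (24, 0)], 1)]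

/-- Images. -/
def e5xJs6 : List (ℕ × ℕ) := [
  (0, 0), (10, 0), (32, 0), (55, 0), (50, 0), (45, 0), (36, 0), (8, 0), (12, 0), (47, 0),
  (41, 0), (43, 0), (56, 0), (51, 0), (52, 0), (1, 0), (48, 0), (49, 0), (3, 0), (59, 0),
  (57, 0), (58, 0), (33, 0), (37, 0), (42, 0), (44, 0), (7, 0), (11, 0), (53, 0), (9, 0),
  (38, 0), (46, 0), (39, 0), (31, 0), (54, 0), (40, 0)]

theorem e5x_op6 :
    opImgOK e5xSpec 0 e5 e5xJs6 = true ∧
      eqCoef e5xSpec.N 0 (e5xSeeds.getD 6 []) (opRel e5xSpec 0 e5 e5xJs6 60) = true := by decide +kernel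

/-- A part of a certificate. -/
def e5xCert0 : List Inst := [
  ⟨[(1, 3), (3, 4)], 5, 5, [(12, 0), (21, 0), (53, 0), (31, 0), (17, 0), (37, 0), (56, 0), (0, 0), (34, 0), (4, 0)]⟩,
  ⟨[], 0, 5, [(0, 0), (2, 0), (6, 0), (13, 0), (25, 0), (40, 0), (43, 0), (52, 0), (53, 0), (59, 0)]⟩,
  ⟨[(1, 3), (3, 4)], 1, -5, [(14, 0), (29, 0), (39, 0), (52, 0), (54, 0), (36, 0), (23, 0), (10, 0), (42, 0), (6, 0)]⟩,
  ⟨[(0, 1), (1, 2)], 1, -5, [(3, 0), (8, 0), (13, 0), (31, 0), (34, 0), (19, 0), (27, 0), (49, 0), (59, 0), (50, 0)]⟩,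
  ⟨[(0, 3), (3, 4)], 1, -5, [(2, 0), (28, 0), (38, 0), (12, 0), (21, 0), (44, 0), (43, 0), (26, 0), (48, 0), (58, 0)]⟩,
  ⟨[(0, 2), (1, 3), (2, 3), (3, 4)], 1, -5, [(7, 0), (17, 0), (25, 0), (45, 0), (46, 0), (33, 0), (41, 0), (5, 0), (53, 0), (22, 0)]⟩,
  ⟨[(0, 1), (1, 2)], 2, 5, [(0, 0), (14, 0), (22, 0), (18, 0), (28, 0), (43, 0), (11, 0), (54, 0), (33, 0), (56, 0)]⟩,
  ⟨[(0, 2), (1, 3), (2, 3), (3, 4)], 3, 5, [(19, 0), (35, 0), (9, 0), (0, 0), (51, 0), (12, 0), (29, 0), (54, 0), (59, 0), (26, 0)]⟩,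
  ⟨[], 1, -5, [(1, 0), (4, 0), (9, 0), (18, 0), (20, 0), (32, 0), (35, 0), (47, 0), (56, 0), (57, 0)]⟩,
  ⟨[(0, 3), (3, 4)], 4, 5, [(9, 0), (52, 0), (23, 0), (27, 0), (33, 0), (5, 0), (0, 0), (31, 0), (20, 0), (55, 0)]⟩,
  ⟨[], 6, -1, [(0, 0), (1, 0), (3, 0), (7, 0), (8, 0), (9, 0), (10, 0), (11, 0), (12, 0), (31, 0), (32, 0), (33, 0), (36, 0), (37, 0), (38, 0), (39, 0), (40, 0), (41, 0), (42, 0), (43, 0), (44, 0), (45, 0), (46, 0), (47, 0), (48, 0), (49, 0), (50, 0), (51, 0), (52, 0), (53, 0), (54, 0), (55, 0), (56, 0), (57, 0), (58, 0), (59, 0)]⟩]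

/-- A certificate. -/
def e5xCert : List Inst := e5xCert0

theorem e5x_final : finalOK e5xSpec 0 e5xSeeds e5xCert 60 = true := by decide +kernel

/-- Words for the representatives. -/
def e5xGroupWords : List (List ℕ) := [
  [], [0], [1], [0, 0], [1, 0], [0, 1], [1, 1], [1, 0, 0], [0, 1, 0], [1, 1, 0], [0, 0, 1],
  [1, 0, 1], [0, 1, 1], [1, 1, 1], [0, 1, 0, 0], [1, 1, 0, 0], [0, 0, 1, 0], [1, 0, 1, 0],
  [1, 1, 1, 0], [1, 0, 0, 1], [0, 1, 0, 1], [1, 1, 0, 1], [0, 0, 1, 1], [1, 0, 1, 1],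
  [0, 1, 1, 1], [1, 1, 1, 1], [0, 0, 1, 0, 0], [1, 0, 1, 0, 0], [1, 0, 0, 1, 0],
  [0, 1, 0, 1, 0], [1, 1, 0, 1, 0], [0, 1, 1, 1, 0], [1, 1, 1, 1, 0], [1, 1, 0, 0, 1],
  [0, 0, 1, 0, 1], [1, 0, 1, 0, 1], [1, 1, 1, 0, 1], [1, 0, 0, 1, 1], [1, 0, 1, 1, 1],
  [0, 1, 1, 1, 1], [0, 1, 0, 1, 0, 0], [1, 1, 0, 1, 0, 0], [1, 1, 0, 0, 1, 0],
  [0, 0, 1, 0, 1, 0], [1, 1, 1, 0, 1, 0], [1, 0, 1, 1, 1, 0], [1, 0, 0, 1, 0, 1],
  [1, 1, 0, 1, 0, 1], [0, 1, 1, 1, 0, 1], [1, 1, 1, 1, 0, 1], [1, 0, 1, 1, 1, 1],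
  [1, 1, 1, 0, 1, 0, 0], [1, 0, 0, 1, 0, 1, 0], [0, 1, 1, 1, 0, 1, 0], [1, 1, 1, 1, 0, 1, 0],
  [1, 1, 0, 0, 1, 0, 1], [1, 1, 1, 0, 1, 0, 1], [0, 1, 1, 1, 0, 1, 0, 0],
  [1, 1, 1, 1, 0, 1, 0, 0], [1, 1, 0, 0, 1, 0, 1, 0]]

/-- The data of the space. -/
def e5pSpec : Spec where
  n := 12
  N := 36
  T := 0xb7a896514230b6a879514230b7a896504213b6a879504213b7a896504132b6a879504132b6a798514230ba9768514230b7a896543102b6a879543102b6a798504213ba9768504213b7a896543021b6a879543021b6a798504132ba9768504132ba9687514230b6a798543102ba9768543102ba9687504213b7a896543210b6a879543210b6a798543021ba9768543021ba9687504132ba9876514230ba9687543102ba9876504213b6a798543210ba9768543210ba9687543021ba9876504132ba9876543102ba9687543210ba9876543021ba9876543210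
  K := [
  (205163983024656, 1), (205163982766881, 1), (205163982824256, 1), (200839236170256, 1),
  (201801828938256, 1), (205163982816306, 1), (205163982754356, 1), (200839235912481, 1),
  (201801828680481, 1), (205163982894081, 1), (200839235969856, 1), (201801828737856, 1),
  (201668450071056, 1), (200629101539856, 1), (202973298045456, 1), (205163982884931, 1),
  (205163983012131, 1), (200839235961906, 1), (201801828729906, 1), (200839235899956, 1),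
  (201801828667956, 1), (201668449813281, 1), (200629101282081, 1), (202973297787681, 1),
  (205163982962706, 1), (205163982954756, 1), (200839236039681, 1), (201801828807681, 1),
  (201668449870656, 1), (200629101339456, 1), (202973297845056, 1), (202819786519056, 1),
  (204953848394256, 1), (204124634493456, 1), (203991255626256, 1), (200839236030531, 1),
  (201801828798531, 1), (200839236157731, 1), (201801828925731, 1), (201668449862706, 1),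
  (200629101331506, 1), (202973297837106, 1), (201668449800756, 1), (200629101269556, 1),
  (202973297775156, 1), (202819786261281, 1), (204953848136481, 1), (204124634235681, 1),
  (203991255368481, 1), (200839236108306, 1), (201801828876306, 1), (200839236100356, 1),
  (201801828868356, 1), (201668449940481, 1), (200629101409281, 1), (202973297914881, 1),
  (202819786318656, 1), (204953848193856, 1), (204124634293056, 1), (203991255425856, 1),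
  (201668449931331, 1), (200629101400131, 1), (202973297905731, 1), (201668450058531, 1),
  (200629101527331, 1), (202973298032931, 1), (202819786310706, 1), (204953848185906, 1),
  (204124634285106, 1), (203991255417906, 1), (202819786248756, 1), (204953848123956, 1),
  (204124634223156, 1), (203991255355956, 1), (201668450009106, 1), (200629101477906, 1),
  (202973297983506, 1), (201668450001156, 1), (200629101469956, 1), (202973297975556, 1),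
  (202819786388481, 1), (204953848263681, 1), (204124634362881, 1), (203991255495681, 1),
  (202819786379331, 1), (204953848254531, 1), (204124634353731, 1), (203991255486531, 1),
  (202819786506531, 1), (204953848381731, 1), (204124634480931, 1), (203991255613731, 1),
  (202819786457106, 1), (204953848332306, 1), (204124634431506, 1), (203991255564306, 1),
  (202819786449156, 1), (204953848324356, 1), (204124634423556, 1), (203991255556356, 1)]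

/-- Generators of the subgroup. -/
def e5pGens : List (List (ℕ × ℕ) × ℤ) := [
  ([(0, 1), (1, 2), (2, 3), (3, 4)], 1), ([(1, 4), (2, 3)], 1),
  ([(6, 7), (7, 8), (8, 9), (9, 10)], 1), ([(7, 10), (8, 9)], 1)]

/-- The enumeration of the subgroup. -/
def e5pSteps : List (ℕ × ℕ) := [
  (0, 0), (1, 0), (2, 0), (3, 0), (0, 1), (1, 1), (2, 1), (3, 1), (0, 2), (2, 2), (3, 2),
  (2, 3), (3, 3), (2, 4), (0, 5), (1, 5), (2, 5), (3, 5), (2, 6), (3, 6), (2, 7), (3, 7),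
  (2, 8), (0, 9), (1, 9), (2, 9), (3, 9), (2, 10), (3, 10), (2, 11), (2, 12), (3, 12), (2, 14),
  (3, 14), (2, 15), (3, 15), (2, 16), (3, 16), (2, 17), (3, 17), (2, 18), (2, 19), (3, 19),
  (2, 20), (2, 21), (3, 21), (2, 23), (3, 23), (2, 24), (3, 24), (2, 25), (3, 25), (2, 26),
  (3, 26), (2, 27), (2, 28), (3, 28), (2, 30), (3, 30), (2, 35), (3, 35), (2, 36), (2, 37),
  (3, 37), (2, 38), (2, 39), (3, 39), (2, 41), (3, 41), (2, 42), (3, 42), (2, 44), (3, 44),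
  (2, 49), (3, 49), (2, 50), (2, 51), (3, 51), (2, 52), (2, 53), (3, 53), (2, 55), (3, 55),
  (2, 60), (3, 60), (2, 62), (3, 62), (2, 63), (3, 63), (2, 65), (3, 65), (2, 74), (3, 74),
  (2, 76), (3, 76), (2, 77), (3, 77), (2, 79), (3, 79)]

/-- Words for the representatives. -/
def e5pWords : List (List (ℕ × ℕ)) := [
  [], [(0, 1), (1, 2)], [(6, 7), (7, 8)], [(0, 2), (1, 2)], [(0, 2), (1, 3), (2, 3), (3, 4)],
  [(0, 1), (1, 2), (6, 7), (7, 8)], [(6, 8), (7, 8)], [(6, 8), (7, 9), (8, 9), (9, 10)],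
  [(0, 3), (3, 4)], [(0, 2), (1, 2), (6, 7), (7, 8)], [(1, 3), (3, 4)],
  [(0, 2), (1, 3), (2, 3), (3, 4), (6, 7), (7, 8)], [(0, 1), (1, 2), (6, 8), (7, 8)],
  [(0, 1), (1, 2), (6, 8), (7, 9), (8, 9), (9, 10)], [(6, 9), (9, 10)], [(7, 9), (9, 10)],
  [(0, 3), (3, 4), (6, 7), (7, 8)], [(0, 2), (1, 2), (6, 8), (7, 8)],
  [(0, 2), (1, 2), (6, 8), (7, 9), (8, 9), (9, 10)], [(1, 3), (3, 4), (6, 7), (7, 8)],
  [(0, 2), (1, 3), (2, 3), (3, 4), (6, 8), (7, 8)],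
  [(0, 2), (1, 3), (2, 3), (3, 4), (6, 8), (7, 9), (8, 9), (9, 10)],
  [(0, 1), (1, 2), (6, 9), (9, 10)], [(0, 1), (1, 2), (7, 9), (9, 10)],
  [(0, 3), (3, 4), (6, 8), (7, 8)], [(0, 3), (3, 4), (6, 8), (7, 9), (8, 9), (9, 10)],
  [(0, 2), (1, 2), (6, 9), (9, 10)], [(0, 2), (1, 2), (7, 9), (9, 10)],
  [(1, 3), (3, 4), (6, 8), (7, 8)], [(1, 3), (3, 4), (6, 8), (7, 9), (8, 9), (9, 10)],
  [(0, 2), (1, 3), (2, 3), (3, 4), (6, 9), (9, 10)],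
  [(0, 2), (1, 3), (2, 3), (3, 4), (7, 9), (9, 10)], [(0, 3), (3, 4), (6, 9), (9, 10)],
  [(0, 3), (3, 4), (7, 9), (9, 10)], [(1, 3), (3, 4), (6, 9), (9, 10)],
  [(1, 3), (3, 4), (7, 9), (9, 10)]]

theorem e5p_K : e5pSpec.K = closeK 12 e5pGens e5pSteps [(idCode 12, 1)] := by decide +kernel

theorem e5p_tbl : e5pSpec.tblOK e5pWords = true := by decide +kernel

theorem e5p_gens : e5pGens.all (fun g => wordOK 12 g.1) = true := by decide +kernel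

/-- Seed relations. -/
def e5pSeeds : List (List (ℕ × ℤ)) := [
  [(0, 1), (5, 1), (17, 1), (21, 1), (32, 1), (35, 1)],
  [(8, 1), (14, 1), (18, 1), (19, 1), (20, 1), (23, 1)],
  [(0, -10), (1, -10), (3, -10), (4, -10), (8, -10), (10, -10)],
  [(0, -10), (2, -10), (6, -10), (7, -10), (14, -10), (15, -10)]]

/-- Invariance data. -/
def e5pFix0 : List (List (ℕ × ℕ) × List (ℕ × ℕ) × List Inst) := [
  ([(0, 1), (1, 2), (6, 7), (7, 8)], [(5, 0), (17, 0), (0, 0), (35, 0), (21, 55), (32, 55)], []),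
  ([(0, 1), (1, 2), (2, 3), (3, 4), (6, 7), (7, 8), (8, 9), (9, 10)], [(0, 7), (21, 0), (32, 0), (17, 84), (35, 89), (5, 11)], [])]

theorem e5p_fix0 :
    fixOK e5pSpec 0 [] (e5pSeeds.getD 0 []) e5pFix0 = true ∧
      e5pFix0.map Prod.fst = gD0 := by decide +kernel

/-- Invariance data. -/
def e5pFix1 : List (List (ℕ × ℕ) × List (ℕ × ℕ) × List Inst) := [
  ([(0, 1), (1, 2), (6, 8), (7, 8)], [(20, 9), (23, 14), (14, 14), (8, 9), (19, 0), (18, 0)], []),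
  ([(0, 1), (1, 2), (2, 3), (3, 4), (6, 8), (7, 8), (8, 9), (9, 10)], [(19, 37), (14, 45), (8, 31), (23, 2), (18, 62), (20, 4)], [])]

theorem e5p_fix1 :
    fixOK e5pSpec 0 [] (e5pSeeds.getD 1 []) e5pFix1 = true ∧
      e5pFix1.map Prod.fst = gD1 := by decide +kernel

/-- Images. -/
def e5pJs2 : List (ℕ × ℕ) := [
  (0, 0), (3, 1), (10, 2), (1, 24), (4, 25), (3, 9), (8, 25), (10, 0), (1, 5), (4, 6), (8, 6),
  (0, 2), (3, 24), (10, 25), (0, 9), (1, 0), (4, 24), (10, 6), (3, 0), (0, 24), (8, 24), (1, 9),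
  (10, 24), (8, 5), (1, 16), (3, 16), (8, 0), (4, 1), (0, 16), (3, 15), (4, 15), (10, 15),
  (1, 25), (4, 16), (8, 16), (0, 6)]

theorem e5p_op2 :
    opImgOK e5pSpec 0 e5 e5pJs2 = true ∧
      eqCoef e5pSpec.N 0 (e5pSeeds.getD 2 []) (opRel e5pSpec 0 e5 e5pJs2 60) = true := by decide +kernel

/-- Images. -/
def e5pJs3 : List (ℕ × ℕ) := [
  (0, 0), (6, 3), (15, 4), (2, 33), (7, 34), (6, 14), (14, 34), (15, 0), (2, 12), (7, 13),
  (14, 13), (0, 4), (6, 33), (15, 34), (0, 14), (2, 0), (7, 33), (15, 13), (6, 0), (0, 33),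
  (14, 33), (2, 14), (15, 33), (14, 12), (2, 32), (6, 32), (14, 0), (7, 3), (0, 32), (6, 31),
  (7, 31), (15, 31), (2, 34), (7, 32), (14, 32), (0, 13)]

theorem e5p_op3 :
    opImgOK e5pSpec 0 e5q e5pJs3 = true ∧
      eqCoef e5pSpec.N 0 (e5pSeeds.getD 3 []) (opRel e5pSpec 0 e5q e5pJs3 60) = true := by decide +kernel

/-- A part of a certificate. -/
def e5pCert0 : List Inst := [
  ⟨[(0, 3), (1, 3), (2, 3), (3, 4)], 1, 20, [(0, 25), (34, 9), (25, 9), (5, 15), (20, 5), (27, 1)]⟩,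
  ⟨[(0, 2), (1, 3), (2, 3), (3, 4), (6, 7), (7, 8), (8, 9), (9, 10)], 0, -20, [(4, 3), (25, 0), (14, 1), (12, 56), (27, 71), (19, 18)]⟩,
  ⟨[(0, 2), (1, 2), (2, 3), (3, 4), (6, 7), (7, 8)], 0, -10, [(5, 1), (28, 0), (4, 9), (15, 15), (25, 62), (26, 30)]⟩,
  ⟨[(0, 1), (1, 4), (2, 3), (3, 4)], 1, 20, [(0, 2), (22, 2), (21, 1), (19, 25), (24, 2), (27, 6)]⟩,
  ⟨[(0, 3), (1, 2), (2, 3), (3, 4)], 1, -10, [(3, 25), (30, 9), (29, 0), (2, 15), (24, 6), (23, 1)]⟩,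
  ⟨[(0, 3), (1, 2), (2, 3), (3, 4), (6, 8), (7, 9), (8, 10), (9, 10)], 1, -20, [(3, 77), (11, 53), (34, 31), (6, 84), (33, 71), (13, 8)]⟩,
  ⟨[(1, 3), (3, 4)], 0, 10, [(10, 0), (11, 9), (12, 1), (18, 2), (14, 6), (33, 6)]⟩,
  ⟨[(0, 3), (1, 4), (2, 4), (3, 4)], 1, -10, [(10, 5), (22, 15), (18, 5), (2, 16), (24, 1), (31, 16)]⟩,
  ⟨[(0, 2), (1, 3), (2, 3), (3, 4), (6, 8), (7, 9), (8, 10), (9, 10)], 1, 10, [(3, 42), (11, 12), (14, 45), (28, 66), (23, 57), (25, 4)]⟩,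
  ⟨[(0, 1), (1, 2), (6, 9), (8, 10)], 0, 10, [(13, 3), (9, 4), (6, 13), (10, 34), (31, 27), (32, 27)]⟩,
  ⟨[], 2, -1, [(0, 0), (1, 0), (3, 0), (4, 0), (8, 0), (10, 0)]⟩,
  ⟨[(0, 1), (1, 3), (2, 3), (3, 4), (6, 8), (7, 9), (8, 10), (9, 10)], 0, -10, [(8, 53), (28, 80), (27, 46), (14, 56), (5, 42), (21, 18)]⟩,
  ⟨[(2, 3), (3, 4)], 0, 10, [(3, 1), (16, 9), (28, 9), (13, 15), (30, 16), (15, 2)]⟩,
  ⟨[(0, 2), (1, 2), (6, 8), (7, 9), (8, 10), (9, 10)], 1, -10, [(10, 53), (9, 12), (22, 31), (20, 31), (33, 81), (7, 4)]⟩,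
  ⟨[(0, 2), (1, 2), (6, 7), (7, 8), (8, 9), (9, 10)], 1, -10, [(10, 26), (27, 32), (12, 31), (21, 0), (32, 9), (2, 4)]⟩,
  ⟨[(2, 3), (3, 4)], 1, 20, [(4, 16), (26, 1), (29, 9), (2, 2), (12, 15), (33, 9)]⟩,
  ⟨[(6, 9), (7, 10), (8, 10), (9, 10)], 1, -10, [(16, 31), (15, 12), (26, 3), (29, 32), (20, 12), (1, 32)]⟩,
  ⟨[], 3, -1, [(0, 0), (2, 0), (6, 0), (7, 0), (14, 0), (15, 0)]⟩]

/-- A certificate. -/
def e5pCert : List Inst := e5pCert0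

theorem e5p_final : finalOK e5pSpec 0 e5pSeeds e5pCert 60 = true := by decide +kernel

/-- The data of the space. -/
def e5wSpec : Spec where
  n := 12
  N := 36
  T := 0xba9876201435ba9876532041ba9876542130ba9876532410ba9876125340ba9876432501ba9876105324ba9876421035ba9876431520ba9876432015ba9876105243ba9876421350ba9876015342ba9876321405ba9876025314ba9876315024ba9876054123ba9876421503ba9876325410ba9876321054ba9876025143ba9876315240ba9876054231ba9876215304ba9876254013ba9876315402ba9876054312ba9876215043ba9876254130ba9876154203ba9876254301ba9876154032ba9876543102ba9876154320ba9876543021ba9876543210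
  K := [
  (205163983024656, 1), (205163982766881, 1), (205163982824256, 1), (205163982816306, 1),
  (205163982754356, 1), (205163982894081, 1), (205163982884931, 1), (205163983012131, 1),
  (205163982962706, 1), (205163982954756, 1)]

/-- Generators of the subgroup. -/
def e5wGens : List (List (ℕ × ℕ) × ℤ) := [
  ([(0, 1), (1, 2), (2, 3), (3, 4)], 1), ([(1, 4), (2, 3)], 1)]

/-- The enumeration of the subgroup. -/
def e5wSteps : List (ℕ × ℕ) := [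
  (0, 0), (1, 0), (0, 1), (1, 1), (0, 2), (0, 3), (1, 3), (0, 5), (1, 5)]

/-- Words for the representatives. -/
def e5wWords : List (List (ℕ × ℕ)) := [
  [], [(0, 1), (1, 2)], [(1, 2), (2, 3), (3, 4), (4, 5)], [(0, 2), (1, 2)],
  [(0, 2), (1, 3), (3, 4), (4, 5)], [(0, 1), (2, 3), (3, 4), (4, 5)],
  [(0, 3), (1, 3), (3, 4), (4, 5)], [(1, 3), (2, 3), (3, 4), (4, 5)],
  [(0, 3), (1, 4), (2, 3), (3, 5)], [(0, 2), (2, 3), (3, 4), (4, 5)],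
  [(0, 2), (1, 2), (2, 4), (3, 5)], [(0, 3), (2, 3), (3, 4), (4, 5)],
  [(0, 4), (1, 4), (2, 3), (3, 5)], [(0, 1), (1, 3), (3, 4), (4, 5)], [(1, 4), (3, 5)],
  [(0, 3), (1, 4), (2, 4), (3, 5)], [(0, 4), (1, 5), (2, 4), (3, 5)], [(2, 4), (3, 5)],
  [(0, 3), (1, 3), (2, 5), (4, 5)], [(0, 3), (1, 2), (3, 4), (4, 5)],
  [(0, 4), (1, 2), (2, 4), (3, 5)], [(0, 4), (2, 3), (3, 5), (4, 5)],
  [(0, 5), (1, 5), (2, 4), (3, 5)], [(0, 2), (1, 4), (2, 3), (3, 5)],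
  [(1, 5), (2, 3), (3, 5), (4, 5)], [(0, 3), (1, 4), (3, 5), (4, 5)],
  [(0, 5), (2, 5), (3, 5), (4, 5)], [(1, 2), (2, 5), (3, 5), (4, 5)],
  [(0, 5), (1, 3), (2, 5), (4, 5)], [(0, 4), (1, 2), (2, 3), (3, 5)],
  [(0, 1), (2, 5), (3, 5), (4, 5)], [(1, 4), (2, 3), (3, 5), (4, 5)], [(2, 4), (3, 4)],
  [(1, 3), (2, 3)], [(0, 1), (1, 4), (2, 4), (3, 4)], [(0, 5), (1, 3), (2, 4), (4, 5)]]

theorem e5w_K : e5wSpec.K = closeK 12 e5wGens e5wSteps [(idCode 12, 1)] := by decide +kernel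

theorem e5w_tbl : e5wSpec.tblOK e5wWords = true := by decide +kernel

theorem e5w_gens : e5wGens.all (fun g => wordOK 12 g.1) = true := by decide +kernel

/-- Seed relations. -/
def e5wSeeds : List (List (ℕ × ℤ)) := [
  [(0, 1), (1, 1), (3, 1), (32, 1), (33, 1), (34, 1)],
  [(0, 1), (12, 1), (13, 1), (17, 1), (24, 1), (25, 1)],
  [(0, -30), (1, 10), (2, 5), (3, -10), (4, -5), (5, 5), (8, -5), (10, 5), (12, 5), (16, -5), (17, 5), (18, 5), (22, -5), (24, 5), (25, 5), (26, -5), (28, -5), (31, -5), (32, -10), (33, -10), (34, -10), (35, -5)],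
  [(0, -10), (1, -10), (3, -10), (32, -10), (33, -10), (34, -10)]]

/-- Invariance data. -/
def e5wFix0 : List (List (ℕ × ℕ) × List (ℕ × ℕ) × List Inst) := [
  ([(0, 1), (1, 2)], [(1, 0), (3, 0), (0, 0), (33, 3), (34, 2), (32, 7)], []),
  ([(0, 1), (1, 2), (2, 3), (3, 4)], [(0, 1), (34, 6), (33, 1), (1, 0), (32, 1), (3, 0)], [])]

theorem e5w_fix0 :
    fixOK e5wSpec 0 [] (e5wSeeds.getD 0 []) e5wFix0 = true ∧
      e5wFix0.map Prod.fst = gA := by decide +kernel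

/-- Invariance data. -/
def e5wFix1 : List (List (ℕ × ℕ) × List (ℕ × ℕ) × List Inst) := [
  ([(0, 1), (1, 2), (2, 3), (3, 4)], [(0, 1), (17, 0), (25, 8), (24, 6), (13, 2), (12, 0)], []),
  ([(0, 5), (1, 4)], [(13, 4), (12, 4), (0, 4), (17, 7), (25, 6), (24, 3)], [])]

theorem e5w_fix1 :
    fixOK e5wSpec 0 [] (e5wSeeds.getD 1 []) e5wFix1 = true ∧
      e5wFix1.map Prod.fst = gT := by decide +kernel

/-- Images. -/
def e5wJs2 : List (ℕ × ℕ) := [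
  (0, 0), (32, 2), (33, 2), (1, 8), (33, 0), (34, 8), (34, 3), (3, 1), (0, 2), (3, 5), (32, 0),
  (1, 3), (5, 5), (12, 1), (11, 3), (8, 3), (11, 8), (35, 4), (31, 2), (25, 4), (4, 8), (29, 9),
  (29, 4), (2, 2), (14, 2), (22, 5), (16, 3), (14, 0), (10, 5), (17, 0), (26, 8), (30, 1),
  (28, 3), (18, 5), (24, 2), (30, 5)]

theorem e5w_op2 :
    opImgOK e5wSpec 0 e5s0 e5wJs2 = true ∧
      eqCoef e5wSpec.N 0 (e5wSeeds.getD 2 []) (opRel e5wSpec 0 e5s0 e5wJs2 60) = true := by decide +kernel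

/-- Images. -/
def e5wJs3 : List (ℕ × ℕ) := [
  (0, 0), (3, 1), (32, 0), (1, 8), (34, 3), (3, 5), (33, 0), (32, 2), (1, 3), (34, 8), (33, 2),
  (0, 2), (3, 8), (32, 5), (0, 5), (1, 0), (34, 2), (32, 1), (3, 0), (0, 8), (33, 7), (1, 5),
  (32, 6), (33, 6), (1, 7), (3, 7), (33, 1), (34, 9), (0, 7), (3, 6), (34, 1), (32, 8), (1, 9),
  (34, 5), (33, 4), (0, 4)]

theorem e5w_op3 :
    opImgOK e5wSpec 0 e5 e5wJs3 = true ∧
      eqCoef e5wSpec.N 0 (e5wSeeds.getD 3 []) (opRel e5wSpec 0 e5 e5wJs3 60) = true := by decide +kernel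

/-- A part of a certificate. -/
def e5wCert0 : List Inst := [
  ⟨[], 3, -8, [(0, 0), (1, 0), (3, 0), (32, 0), (33, 0), (34, 0)]⟩,
  ⟨[], 1, 180, [(0, 0), (12, 0), (13, 0), (17, 0), (24, 0), (25, 0)]⟩,
  ⟨[(0, 2), (1, 5), (2, 4), (3, 5)], 2, 15, [(17, 4), (16, 5), (32, 7), (14, 1), (1, 9), (28, 2), (26, 1), (6, 7), (24, 2), (4, 8), (25, 3), (19, 8), (2, 8), (13, 8), (0, 5), (21, 3), (9, 8), (3, 0), (22, 9), (10, 2), (20, 7), (30, 9)]⟩,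
  ⟨[(0, 2), (2, 3), (3, 4), (4, 5)], 3, 12, [(9, 0), (13, 0), (19, 0), (23, 2), (21, 9), (15, 3)]⟩,
  ⟨[(1, 2), (2, 3), (3, 4), (4, 5)], 3, -27, [(2, 0), (4, 0), (6, 0), (31, 2), (29, 9), (25, 3)]⟩,
  ⟨[(0, 2), (1, 2), (2, 4), (3, 5)], 0, -570, [(10, 0), (14, 0), (20, 0), (17, 9), (22, 9), (16, 3)]⟩,
  ⟨[(0, 1), (2, 3), (3, 4), (4, 5)], 0, -340, [(5, 0), (7, 0), (11, 0), (35, 6), (12, 9), (8, 3)]⟩,
  ⟨[(0, 1), (1, 4), (2, 5), (3, 5)], 2, -44, [(17, 1), (10, 3), (27, 7), (20, 6), (28, 2), (1, 9), (3, 0), (5, 9), (0, 0), (7, 0), (12, 9), (9, 0), (11, 0), (13, 0), (24, 9), (15, 0), (19, 0), (26, 1), (22, 7), (16, 6), (14, 5), (34, 4)]⟩,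
  ⟨[(0, 4), (1, 4), (2, 4), (3, 4)], 2, -38, [(0, 9), (32, 0), (19, 7), (34, 0), (23, 9), (29, 9), (2, 1), (35, 7), (25, 0), (11, 2), (12, 0), (16, 9), (5, 4), (17, 3), (13, 8), (22, 0), (14, 7), (15, 5), (33, 9), (3, 9), (1, 3), (4, 9)]⟩,
  ⟨[(0, 3), (1, 3), (2, 5), (4, 5)], 3, -3, [(18, 0), (24, 0), (28, 0), (27, 9), (30, 9), (26, 3)]⟩,
  ⟨[(0, 4), (1, 5), (2, 4), (3, 5)], 2, -22, [(16, 0), (22, 0), (0, 9), (10, 1), (32, 0), (19, 4), (23, 9), (29, 9), (21, 9), (2, 1), (4, 6), (35, 7), (25, 0), (8, 5), (1, 0), (11, 2), (7, 1), (33, 4), (17, 3), (20, 2), (14, 7), (9, 8)]⟩,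
  ⟨[(1, 2), (2, 3), (3, 4), (4, 5)], 2, 15, [(2, 0), (4, 0), (5, 1), (6, 0), (8, 0), (10, 0), (16, 0), (18, 0), (22, 0), (26, 0), (27, 0), (0, 9), (30, 0), (32, 0), (11, 6), (1, 0), (34, 0), (7, 2), (31, 2), (29, 9), (25, 3), (17, 1)]⟩,
  ⟨[(0, 3), (1, 2)], 2, 8, [(0, 7), (33, 7), (11, 0), (34, 2), (5, 0), (4, 0), (31, 0), (9, 1), (25, 5), (19, 6), (13, 1), (28, 8), (23, 7), (24, 8), (12, 5), (30, 3), (18, 8), (8, 0), (32, 4), (1, 7), (3, 2), (29, 6)]⟩,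
  ⟨[(0, 5), (1, 2), (2, 4), (3, 4)], 2, 14, [(21, 6), (13, 3), (7, 4), (9, 6), (12, 2), (27, 1), (24, 7), (6, 6), (26, 9), (25, 2), (4, 9), (20, 4), (29, 4), (16, 1), (8, 9), (17, 2), (14, 2), (11, 9), (15, 6), (23, 6), (19, 5), (30, 5)]⟩,
  ⟨[(0, 2), (1, 4), (2, 4), (3, 5)], 2, -31, [(20, 5), (22, 3), (18, 4), (16, 6), (27, 7), (25, 1), (2, 9), (1, 0), (31, 2), (32, 2), (33, 6), (15, 6), (34, 4), (19, 5), (30, 8), (23, 8), (21, 3), (24, 9), (14, 8), (17, 4), (10, 8), (29, 3)]⟩,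
  ⟨[(0, 5), (1, 4), (3, 5), (4, 5)], 2, 7, [(6, 4), (25, 1), (27, 8), (4, 2), (24, 9), (7, 6), (12, 1), (21, 4), (35, 5), (13, 5), (9, 4), (20, 3), (23, 4), (14, 6), (18, 5), (17, 1), (16, 7), (28, 0), (2, 4), (29, 6), (31, 1), (5, 0)]⟩,
  ⟨[(1, 5), (2, 5), (3, 4), (4, 5)], 2, 36, [(20, 3), (14, 6), (32, 0), (16, 7), (34, 0), (29, 6), (6, 7), (26, 1), (31, 9), (18, 9), (30, 1), (12, 0), (27, 9), (5, 1), (33, 4), (35, 5), (8, 0), (3, 5), (22, 5), (10, 1), (17, 6), (25, 0)]⟩,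
  ⟨[(0, 2), (1, 5), (3, 5), (4, 5)], 2, 6, [(30, 7), (24, 5), (3, 0), (27, 0), (0, 0), (9, 9), (13, 0), (2, 0), (19, 0), (25, 0), (31, 4), (16, 6), (29, 0), (20, 5), (33, 8), (17, 3), (22, 3), (34, 6), (28, 9), (18, 4), (26, 2), (21, 0)]⟩,
  ⟨[(2, 4), (3, 5)], 2, 29, [(17, 0), (22, 7), (4, 3), (14, 5), (2, 6), (30, 0), (27, 8), (34, 1), (24, 9), (32, 6), (0, 0), (7, 9), (1, 7), (12, 1), (25, 7), (11, 0), (35, 5), (31, 2), (16, 3), (20, 3), (10, 9), (28, 5)]⟩,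
  ⟨[], 2, 7, [(0, 0), (1, 0), (2, 0), (3, 0), (4, 0), (5, 0), (8, 0), (10, 0), (12, 0), (16, 0), (17, 0), (18, 0), (22, 0), (24, 0), (25, 0), (26, 0), (28, 0), (31, 0), (32, 0), (33, 0), (34, 0), (35, 0)]⟩,
  ⟨[(0, 5), (1, 2), (2, 3), (3, 4)], 2, 15, [(15, 6), (19, 5), (35, 0), (21, 3), (5, 3), (17, 4), (20, 2), (26, 9), (10, 4), (30, 0), (28, 2), (2, 6), (18, 1), (29, 6), (7, 7), (31, 2), (4, 3), (12, 6), (9, 9), (13, 4), (23, 2), (22, 1)]⟩,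
  ⟨[(0, 1), (1, 3), (2, 5), (3, 5)], 2, -30, [(21, 1), (23, 3), (14, 4), (13, 9), (22, 2), (33, 1), (32, 7), (12, 6), (1, 9), (11, 7), (8, 9), (28, 4), (35, 4), (26, 1), (16, 9), (27, 2), (24, 2), (20, 9), (9, 1), (19, 8), (15, 0), (3, 5)]⟩,
  ⟨[(0, 2), (3, 4)], 2, -14, [(0, 8), (3, 8), (31, 9), (1, 8), (29, 9), (23, 9), (15, 5), (26, 3), (13, 1), (28, 5), (24, 4), (14, 1), (30, 3), (17, 4), (25, 5), (10, 6), (16, 5), (2, 1), (33, 7), (32, 7), (34, 2), (9, 4)]⟩,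
  ⟨[(0, 3), (1, 2), (2, 3), (3, 4)], 2, 30, [(34, 4), (1, 1), (12, 8), (32, 2), (8, 8), (15, 9), (21, 0), (27, 2), (9, 1), (26, 5), (18, 2), (31, 1), (24, 1), (6, 2), (35, 3), (4, 9), (2, 4), (7, 1), (0, 7), (3, 6), (33, 7), (19, 4)]⟩,
  ⟨[(1, 3), (2, 3), (3, 4), (4, 5)], 2, 20, [(7, 0), (11, 0), (17, 0), (5, 0), (22, 7), (4, 1), (2, 6), (30, 0), (29, 6), (27, 8), (28, 8), (34, 1), (24, 9), (3, 5), (10, 3), (32, 6), (33, 6), (16, 8), (12, 1), (8, 8), (35, 5), (6, 3)]⟩,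
  ⟨[(0, 4), (4, 5)], 2, -8, [(19, 7), (23, 9), (29, 0), (21, 9), (2, 1), (35, 7), (11, 2), (16, 9), (5, 4), (22, 0), (20, 2), (0, 6), (10, 1), (33, 9), (31, 3), (32, 0), (1, 3), (6, 6), (15, 1), (9, 7), (13, 2), (12, 1)]⟩,
  ⟨[(0, 5), (1, 5)], 2, 8, [(2, 9), (31, 2), (15, 6), (25, 3), (19, 5), (35, 9), (5, 3), (17, 4), (11, 6), (20, 2), (22, 0), (26, 9), (10, 4), (27, 3), (23, 8), (30, 0), (24, 7), (9, 4), (29, 6), (6, 9), (4, 3), (8, 9)]⟩,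
  ⟨[(0, 4), (1, 3), (2, 5), (3, 4)], 2, -14, [(35, 8), (11, 2), (16, 0), (5, 4), (22, 0), (0, 6), (32, 0), (19, 4), (34, 0), (23, 9), (9, 7), (29, 9), (21, 9), (6, 7), (14, 2), (2, 1), (31, 9), (17, 8), (8, 5), (12, 0), (7, 1), (3, 0)]⟩,
  ⟨[(0, 5), (2, 3), (3, 4), (4, 5)], 2, -37, [(8, 6), (11, 5), (31, 7), (12, 3), (2, 3), (10, 4), (22, 8), (24, 8), (16, 8), (27, 0), (26, 0), (9, 6), (30, 7), (21, 6), (4, 7), (23, 2), (13, 3), (29, 6), (5, 9), (7, 4), (35, 6), (14, 8)]⟩,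
  ⟨[(0, 2), (1, 2), (2, 4), (3, 5)], 2, -37, [(10, 0), (14, 0), (13, 3), (20, 0), (9, 6), (27, 0), (18, 3), (33, 4), (28, 6), (34, 2), (3, 0), (4, 9), (0, 7), (29, 1), (15, 7), (6, 0), (31, 3), (23, 2), (17, 9), (22, 9), (16, 3), (26, 9)]⟩]

/-- A certificate. -/
def e5wCert : List Inst := e5wCert0

theorem e5w_final : finalOK e5wSpec 0 e5wSeeds e5wCert 1080 = true := by decide +kernel

end Cfsg.Agent.Solv.AltSec.Seven
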