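import Cfsg.Agent.Lib.Solv.AltSec.Tools
import Cfsg.Agent.Lib.Solv.AltSec.Seven.DataE3
import Cfsg.Agent.Lib.Solv.AltSec.Seven.DataE4
import Cfsg.Agent.Lib.Solv.AltSec.Seven.DataE5

/-!
The cases of the certificates for the alternating group of degree twelve.
-/

set_option autoImplicit false

namespace Cfsg.Agent.Solv.AltSec.Seven

/-- A relation that is an eigenvector of the listed elements. -/
def eigOK (S : Spec) (w : List (ℕ × ℤ)) (L : List (List (ℕ × ℕ) × List (ℕ × ℕ) × ℤ)) : Bool :=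
  L.all fun g => wordOK S.n g.1 && imageOK S (wcode S.n g.1) w g.2.1 &&
    eqCoef S.N 0 (image S w g.2.1) (scale g.2.2 w)

theorem ev_eig {S : Spec} {V : Type*} [AddCommGroup V] [DistribMulAction (alternatingGroup (Fin S.n)) V]
    {v : V} (hb : S.Base v) {w : List (ℕ × ℤ)} {L : List (List (ℕ × ℕ) × List (ℕ × ℕ) × ℤ)}
    (h : eigOK S w L = true) {G : List (List (ℕ × ℕ) × ℤ)} (hG : L.map (fun g => (g.1, g.2.2)) = G) :
    ∀ g ∈ G, el S.n (wcode S.n g.1) • S.ev v w = g.2 • S.ev v w := by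
  intro g hg
  rw [← hG, List.mem_map] at hg
  obtain ⟨a, ha, rfl⟩ := hg
  have ha' := (List.all_eq_true.1 h) a ha
  simp only [Bool.and_eq_true] at ha'
  rw [← ev_image hb (evn_wcode hb.deg ha'.1.1) _ _ ha'.1.2, ev_congr v (fun u => zero_smul ℤ u) ha'.2, ev_scale]

theorem ev_mem {S : Spec} {V : Type*} [AddCommGroup V] [DistribMulAction (alternatingGroup (Fin S.n)) V]
    {v : V} (W : AddSubgroup V) (h : ∀ x, S.f v x ∈ W) : ∀ w : List (ℕ × ℤ), S.ev v w ∈ W
  | [] => W.zero_mem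
  | q :: w => W.add_mem (W.zsmul_mem (h q.1) q.2) (ev_mem W h w)

theorem f_mem {S : Spec} {V : Type*} [AddCommGroup V] [DistribMulAction (alternatingGroup (Fin S.n)) V]
    (hn : S.n ≤ 16) {G : List (List (ℕ × ℕ))} (hG : G.all (wordOK S.n) = true) {GW : List (List ℕ)}
    (hGW : ((List.range S.N).all fun x => Nat.beq (evalW S.n G (GW.getD x [])) (S.tbl x)) = true)
    (W : AddSubgroup V) (hW : ∀ g ∈ G, ∀ u ∈ W, el S.n (wcode S.n g) • u ∈ W) (v : V) (hv : v ∈ W) (x : ℕ) :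
    S.f v x ∈ W := by
  have key : ∀ w : List ℕ, el S.n (evalW S.n G w) • v ∈ W := by
    intro w
    induction w with
    | nil => rwa [evalW, (evn_id hn).2, one_smul]
    | cons i w ih =>
      have he := (evalW_spec hn (G := G) (List.all_eq_true.1 hG) ⊤ (fun _ _ => trivial) w).1
      by_cases hi : i < G.length
      · rw [evalW, List.getD_eq_getElem _ _ hi,
          ((evn_wcode hn (List.all_eq_true.1 hG _ (List.getElem_mem hi))).comp hn he).2, mul_smul]
        exact hW _ (List.getElem_mem hi) _ ih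
      · rw [evalW, List.getD_eq_default _ _ (Nat.le_of_not_lt hi), wcode, ((evn_id hn).1.comp hn he).2,
          (evn_id hn).2, one_mul]
        exact ih
  rw [Spec.f]
  by_cases hx : x < S.N
  · have h := List.all_eq_true.1 hGW x (List.mem_range.2 hx)
    rw [← Nat.eq_of_beq_eq_true h]
    exact key _
  · rwa [Spec.tbl, if_neg hx, (evn_id hn).2, one_smul]

theorem kill {V : Type*} [AddCommGroup V] (h60 : ∀ u : V, (60 : ℤ) • u = 0 → u = 0) (k : ℕ) {m : ℤ}
    (hm : m ∣ 60 ^ k) {u : V} (h : m • u = 0) : u = 0 := by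
  have h' : ((60 : ℤ) ^ k) • u = 0 := by
    obtain ⟨q, hq⟩ := hm
    rw [hq, mul_comm, mul_smul, h, smul_zero]
  clear h hm
  induction k with
  | zero => simpa using h'
  | succ k ih =>
    rw [pow_succ', mul_smul] at h'
    exact ih (h60 _ h')

variable {V : Type*} [AddCommGroup V] [inst : DistribMulAction (alternatingGroup (Fin 12)) V]

theorem e3x_find (h60 : ∀ u : V, (60 : ℤ) • u = 0 → u = 0) (W : AddSubgroup V)
    (hW : ∀ g ∈ gA, ∀ u ∈ W, el 12 (wcode 12 g) • u ∈ W) (v : V) (hv : v ∈ W)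
    (he3 : opApp 12 e3 v = (60 : ℤ) • v)
    (hv0 : v ≠ 0) : ∃ v' ∈ W, v' ≠ 0 ∧ ∀ g ∈ e3wGens, el 12 (wcode 12 g.1) • v' = g.2 • v' := by
  by_contra hno
  push Not at hno
  letI : DistribMulAction (alternatingGroup (Fin e3xSpec.n)) V := inst
  have hb : e3xSpec.Base v := base_of (S := e3xSpec) (by norm_num [e3xSpec]) v e3x_tbl e3xGens e3xSteps
    e3x_K e3x_gens (fun g hg => absurd hg List.not_mem_nil)
  have hf := f_mem (S := e3xSpec) (G := gA) (GW := e3xGroupWords) hb.deg (by decide +kernel) (by decide +kernel) W hW v hv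
  have z0 : ∀ u : V, (0 : ℤ) • u = 0 := fun u => zero_smul ℤ u
  have raw : ∀ (w : List (ℕ × ℤ)) (L : List (List (ℕ × ℕ) × List (ℕ × ℕ) × ℤ)),
      eigOK e3xSpec w L = true ∧ L.map (fun g => (g.1, g.2.2)) = e3wGens → e3xSpec.ev v w = 0 := by
    intro w L h
    by_contra h0
    obtain ⟨g, hg, hne⟩ := hno _ (ev_mem (S := e3xSpec) W hf w) h0
    exact hne (ev_eig hb h.1 h.2 g hg)
  apply hv0
  have h00 : ∀ w ∈ e3xSeeds, e3xSpec.ev v w = 0 := by
    intro w hw
    obtain ⟨i, hi, rfl⟩ := List.mem_iff_getElem.1 hw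
    rw [← List.getD_eq_getElem _ [] hi]
    change i < 6 at hi
    interval_cases i
    · exact raw _ e3xEig0 (by decide +kernel)
    · exact raw _ e3xEig1 (by decide +kernel)
    · exact raw _ e3xEig2 (by decide +kernel)
    · exact raw _ e3xEig3 (by decide +kernel)
    · exact raw _ e3xEig4 (by decide +kernel)
    · exact ev_opRel hb e3_evn e3x_op5.1 (opApp_base hb e3x_final he3) z0 e3x_op5.2
  exact kill h60 1 (by norm_num) (final_zero (S := e3xSpec) hb z0 h00 e3x_final)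

theorem e3p_zero (H : Hyp 12 V) (h60 : ∀ u : V, (60 : ℤ) • u = 0 → u = 0) (v : V)
    (hfix : ∀ g ∈ e3pGens, el 12 (wcode 12 g.1) • v = g.2 • v) : v = 0 := by
  letI : DistribMulAction (alternatingGroup (Fin e3pSpec.n)) V := inst
  have hb : e3pSpec.Base v := base_of (S := e3pSpec) (by norm_num [e3pSpec]) v e3p_tbl e3pGens e3pSteps
    e3p_K e3p_gens hfix
  have z0 : ∀ u : V, (0 : ℤ) • u = 0 := fun u => zero_smul ℤ u
  have z : ∀ w' ∈ ([] : List (List (ℕ × ℤ))), e3pSpec.ev v w' = 0 := fun w' h => absurd h List.not_mem_nil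
  have h00 : ∀ w ∈ e3pSeeds, e3pSpec.ev v w = 0 := by
    intro w hw
    obtain ⟨i, hi, rfl⟩ := List.mem_iff_getElem.1 hw
    rw [← List.getD_eq_getElem _ [] hi]
    change i < 2 at hi
    interval_cases i
    · exact Hyp.seed (S := e3pSpec) H hb z0 z gD0_comm e3p_fix0
    · exact Hyp.seed (S := e3pSpec) H hb z0 z gD1_comm e3p_fix1
  exact kill h60 1 (by norm_num) (final_zero (S := e3pSpec) hb z0 h00 e3p_final)

theorem e3w_zero (H : Hyp 12 V) (h60 : ∀ u : V, (60 : ℤ) • u = 0 → u = 0) (v : V)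
    (hfix : ∀ g ∈ e3wGens, el 12 (wcode 12 g.1) • v = g.2 • v)
    (he3s0 : opApp 12 e3s0 v = (60 : ℤ) • v) : v = 0 := by
  letI : DistribMulAction (alternatingGroup (Fin e3wSpec.n)) V := inst
  have hb : e3wSpec.Base v := base_of (S := e3wSpec) (by norm_num [e3wSpec]) v e3w_tbl e3wGens e3wSteps
    e3w_K e3w_gens hfix
  have z0 : ∀ u : V, (0 : ℤ) • u = 0 := fun u => zero_smul ℤ u
  have z : ∀ w' ∈ ([] : List (List (ℕ × ℤ))), e3wSpec.ev v w' = 0 := fun w' h => absurd h List.not_mem_nil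
  have h00 : ∀ w ∈ e3wSeeds, e3wSpec.ev v w = 0 := by
    intro w hw
    obtain ⟨i, hi, rfl⟩ := List.mem_iff_getElem.1 hw
    rw [← List.getD_eq_getElem _ [] hi]
    change i < 1 at hi
    interval_cases i
    · exact ev_opRel hb e3s0_evn e3w_op0.1 (opApp_base hb e3w_final he3s0) z0 e3w_op0.2
  exact kill h60 2 (by norm_num) (final_zero (S := e3wSpec) hb z0 h00 e3w_final)

theorem e4x_find (h60 : ∀ u : V, (60 : ℤ) • u = 0 → u = 0) (W : AddSubgroup V)
    (hW : ∀ g ∈ gA, ∀ u ∈ W, el 12 (wcode 12 g) • u ∈ W) (v : V) (hv : v ∈ W)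
    (he4 : opApp 12 e4 v = (60 : ℤ) • v)
    (hv0 : v ≠ 0) : ∃ v' ∈ W, v' ≠ 0 ∧ ∀ g ∈ e4wGens, el 12 (wcode 12 g.1) • v' = g.2 • v' := by
  by_contra hno
  push Not at hno
  letI : DistribMulAction (alternatingGroup (Fin e4xSpec.n)) V := inst
  have hb : e4xSpec.Base v := base_of (S := e4xSpec) (by norm_num [e4xSpec]) v e4x_tbl e4xGens e4xSteps
    e4x_K e4x_gens (fun g hg => absurd hg List.not_mem_nil)
  have hf := f_mem (S := e4xSpec) (G := gA) (GW := e4xGroupWords) hb.deg (by decide +kernel) (by decide +kernel) W hW v hv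
  have z0 : ∀ u : V, (0 : ℤ) • u = 0 := fun u => zero_smul ℤ u
  have raw : ∀ (w : List (ℕ × ℤ)) (L : List (List (ℕ × ℕ) × List (ℕ × ℕ) × ℤ)),
      eigOK e4xSpec w L = true ∧ L.map (fun g => (g.1, g.2.2)) = e4wGens → e4xSpec.ev v w = 0 := by
    intro w L h
    by_contra h0
    obtain ⟨g, hg, hne⟩ := hno _ (ev_mem (S := e4xSpec) W hf w) h0
    exact hne (ev_eig hb h.1 h.2 g hg)
  apply hv0
  have h00 : ∀ w ∈ e4xSeeds, e4xSpec.ev v w = 0 := by
    intro w hw
    obtain ⟨i, hi, rfl⟩ := List.mem_iff_getElem.1 hw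
    rw [← List.getD_eq_getElem _ [] hi]
    change i < 5 at hi
    interval_cases i
    · exact raw _ e4xEig0 (by decide +kernel)
    · exact raw _ e4xEig1 (by decide +kernel)
    · exact raw _ e4xEig2 (by decide +kernel)
    · exact raw _ e4xEig3 (by decide +kernel)
    · exact ev_opRel hb e4_evn e4x_op4.1 (opApp_base hb e4x_final he4) z0 e4x_op4.2
  exact kill h60 1 (by norm_num) (final_zero (S := e4xSpec) hb z0 h00 e4x_final)

theorem e4p_zero (H : Hyp 12 V) (h60 : ∀ u : V, (60 : ℤ) • u = 0 → u = 0) (v : V)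
    (hfix : ∀ g ∈ e4pGens, el 12 (wcode 12 g.1) • v = g.2 • v)
    (he4q : opApp 12 e4q v = (60 : ℤ) • v) : v = 0 := by
  letI : DistribMulAction (alternatingGroup (Fin e4pSpec.n)) V := inst
  have hb : e4pSpec.Base v := base_of (S := e4pSpec) (by norm_num [e4pSpec]) v e4p_tbl e4pGens e4pSteps
    e4p_K e4p_gens hfix
  have z0 : ∀ u : V, (0 : ℤ) • u = 0 := fun u => zero_smul ℤ u
  have z : ∀ w' ∈ ([] : List (List (ℕ × ℤ))), e4pSpec.ev v w' = 0 := fun w' h => absurd h List.not_mem_nil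
  have h00 : ∀ w ∈ e4pSeeds, e4pSpec.ev v w = 0 := by
    intro w hw
    obtain ⟨i, hi, rfl⟩ := List.mem_iff_getElem.1 hw
    rw [← List.getD_eq_getElem _ [] hi]
    change i < 4 at hi
    interval_cases i
    · exact Hyp.seed (S := e4pSpec) H hb z0 z gA_comm e4p_fix0
    · exact Hyp.seed (S := e4pSpec) H hb z0 z gD0_comm e4p_fix1
    · exact Hyp.seed (S := e4pSpec) H hb z0 z gD1_comm e4p_fix2
    · exact ev_opRel hb e4q_evn e4p_op3.1 (opApp_base hb e4p_final he4q) z0 e4p_op3.2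
  exact kill h60 1 (by norm_num) (final_zero (S := e4pSpec) hb z0 h00 e4p_final)

theorem e4w_zero (H : Hyp 12 V) (h60 : ∀ u : V, (60 : ℤ) • u = 0 → u = 0) (v : V)
    (hfix : ∀ g ∈ e4wGens, el 12 (wcode 12 g.1) • v = g.2 • v)
    (he4s0 : opApp 12 e4s0 v = (60 : ℤ) • v)
    (he4s4 : opApp 12 e4s4 v = (60 : ℤ) • v)
    (he4 : opApp 12 e4 v = (60 : ℤ) • v) : v = 0 := by
  letI : DistribMulAction (alternatingGroup (Fin e4wSpec.n)) V := inst
  have hb : e4wSpec.Base v := base_of (S := e4wSpec) (by norm_num [e4wSpec]) v e4w_tbl e4wGens e4wSteps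
    e4w_K e4w_gens hfix
  have z0 : ∀ u : V, (0 : ℤ) • u = 0 := fun u => zero_smul ℤ u
  have z : ∀ w' ∈ ([] : List (List (ℕ × ℤ))), e4wSpec.ev v w' = 0 := fun w' h => absurd h List.not_mem_nil
  have h00 : ∀ w ∈ e4wSeeds, e4wSpec.ev v w = 0 := by
    intro w hw
    obtain ⟨i, hi, rfl⟩ := List.mem_iff_getElem.1 hw
    rw [← List.getD_eq_getElem _ [] hi]
    change i < 5 at hi
    interval_cases i
    · exact Hyp.seed (S := e4wSpec) H hb z0 z gA_comm e4w_fix0
    · exact Hyp.seed (S := e4wSpec) H hb z0 z gA_comm e4w_fix1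
    · exact ev_opRel hb e4s0_evn e4w_op2.1 (opApp_base hb e4w_final he4s0) z0 e4w_op2.2
    · exact ev_opRel hb e4s4_evn e4w_op3.1 (opApp_base hb e4w_final he4s4) z0 e4w_op3.2
    · exact ev_opRel hb e4_evn e4w_op4.1 (opApp_base hb e4w_final he4) z0 e4w_op4.2
  exact kill h60 3 (by norm_num) (final_zero (S := e4wSpec) hb z0 h00 e4w_final)

theorem e5x_find (h60 : ∀ u : V, (60 : ℤ) • u = 0 → u = 0) (W : AddSubgroup V)
    (hW : ∀ g ∈ gA, ∀ u ∈ W, el 12 (wcode 12 g) • u ∈ W) (v : V) (hv : v ∈ W)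
    (he5 : opApp 12 e5 v = (60 : ℤ) • v)
    (hv0 : v ≠ 0) : ∃ v' ∈ W, v' ≠ 0 ∧ ∀ g ∈ e5wGens, el 12 (wcode 12 g.1) • v' = g.2 • v' := by
  by_contra hno
  push Not at hno
  letI : DistribMulAction (alternatingGroup (Fin e5xSpec.n)) V := inst
  have hb : e5xSpec.Base v := base_of (S := e5xSpec) (by norm_num [e5xSpec]) v e5x_tbl e5xGens e5xSteps
    e5x_K e5x_gens (fun g hg => absurd hg List.not_mem_nil)
  have hf := f_mem (S := e5xSpec) (G := gA) (GW := e5xGroupWords) hb.deg (by decide +kernel) (by decide +kernel) W hW v hv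
  have z0 : ∀ u : V, (0 : ℤ) • u = 0 := fun u => zero_smul ℤ u
  have raw : ∀ (w : List (ℕ × ℤ)) (L : List (List (ℕ × ℕ) × List (ℕ × ℕ) × ℤ)),
      eigOK e5xSpec w L = true ∧ L.map (fun g => (g.1, g.2.2)) = e5wGens → e5xSpec.ev v w = 0 := by
    intro w L h
    by_contra h0
    obtain ⟨g, hg, hne⟩ := hno _ (ev_mem (S := e5xSpec) W hf w) h0
    exact hne (ev_eig hb h.1 h.2 g hg)
  apply hv0
  have h00 : ∀ w ∈ e5xSeeds, e5xSpec.ev v w = 0 := by
    intro w hw
    obtain ⟨i, hi, rfl⟩ := List.mem_iff_getElem.1 hw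
    rw [← List.getD_eq_getElem _ [] hi]
    change i < 7 at hi
    interval_cases i
    · exact raw _ e5xEig0 (by decide +kernel)
    · exact raw _ e5xEig1 (by decide +kernel)
    · exact raw _ e5xEig2 (by decide +kernel)
    · exact raw _ e5xEig3 (by decide +kernel)
    · exact raw _ e5xEig4 (by decide +kernel)
    · exact raw _ e5xEig5 (by decide +kernel)
    · exact ev_opRel hb e5_evn e5x_op6.1 (opApp_base hb e5x_final he5) z0 e5x_op6.2
  exact kill h60 1 (by norm_num) (final_zero (S := e5xSpec) hb z0 h00 e5x_final)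

theorem e5p_zero (H : Hyp 12 V) (h60 : ∀ u : V, (60 : ℤ) • u = 0 → u = 0) (v : V)
    (hfix : ∀ g ∈ e5pGens, el 12 (wcode 12 g.1) • v = g.2 • v)
    (he5 : opApp 12 e5 v = (60 : ℤ) • v)
    (he5q : opApp 12 e5q v = (60 : ℤ) • v) : v = 0 := by
  letI : DistribMulAction (alternatingGroup (Fin e5pSpec.n)) V := inst
  have hb : e5pSpec.Base v := base_of (S := e5pSpec) (by norm_num [e5pSpec]) v e5p_tbl e5pGens e5pSteps
    e5p_K e5p_gens hfix
  have z0 : ∀ u : V, (0 : ℤ) • u = 0 := fun u => zero_smul ℤ u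
  have z : ∀ w' ∈ ([] : List (List (ℕ × ℤ))), e5pSpec.ev v w' = 0 := fun w' h => absurd h List.not_mem_nil
  have h00 : ∀ w ∈ e5pSeeds, e5pSpec.ev v w = 0 := by
    intro w hw
    obtain ⟨i, hi, rfl⟩ := List.mem_iff_getElem.1 hw
    rw [← List.getD_eq_getElem _ [] hi]
    change i < 4 at hi
    interval_cases i
    · exact Hyp.seed (S := e5pSpec) H hb z0 z gD0_comm e5p_fix0
    · exact Hyp.seed (S := e5pSpec) H hb z0 z gD1_comm e5p_fix1
    · exact ev_opRel hb e5_evn e5p_op2.1 (opApp_base hb e5p_final he5) z0 e5p_op2.2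
    · exact ev_opRel hb e5q_evn e5p_op3.1 (opApp_base hb e5p_final he5q) z0 e5p_op3.2
  exact kill h60 1 (by norm_num) (final_zero (S := e5pSpec) hb z0 h00 e5p_final)

theorem e5w_zero (H : Hyp 12 V) (h60 : ∀ u : V, (60 : ℤ) • u = 0 → u = 0) (v : V)
    (hfix : ∀ g ∈ e5wGens, el 12 (wcode 12 g.1) • v = g.2 • v)
    (he5s0 : opApp 12 e5s0 v = (60 : ℤ) • v)
    (he5 : opApp 12 e5 v = (60 : ℤ) • v) : v = 0 := by
  letI : DistribMulAction (alternatingGroup (Fin e5wSpec.n)) V := inst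
  have hb : e5wSpec.Base v := base_of (S := e5wSpec) (by norm_num [e5wSpec]) v e5w_tbl e5wGens e5wSteps
    e5w_K e5w_gens hfix
  have z0 : ∀ u : V, (0 : ℤ) • u = 0 := fun u => zero_smul ℤ u
  have z : ∀ w' ∈ ([] : List (List (ℕ × ℤ))), e5wSpec.ev v w' = 0 := fun w' h => absurd h List.not_mem_nil
  have h00 : ∀ w ∈ e5wSeeds, e5wSpec.ev v w = 0 := by
    intro w hw
    obtain ⟨i, hi, rfl⟩ := List.mem_iff_getElem.1 hw
    rw [← List.getD_eq_getElem _ [] hi]
    change i < 4 at hi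
    interval_cases i
    · exact Hyp.seed (S := e5wSpec) H hb z0 z gA_comm e5w_fix0
    · exact Hyp.seed (S := e5wSpec) H hb z0 z gT_comm e5w_fix1
    · exact ev_opRel hb e5s0_evn e5w_op2.1 (opApp_base hb e5w_final he5s0) z0 e5w_op2.2
    · exact ev_opRel hb e5_evn e5w_op3.1 (opApp_base hb e5w_final he5) z0 e5w_op3.2
  exact kill h60 3 (by norm_num) (final_zero (S := e5wSpec) hb z0 h00 e5w_final)

end Cfsg.Agent.Solv.AltSec.Seven
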