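import Cfsg.Agent.Lib.Solv.AltSec.Decomp

/-!
Certificate data for the alternating group of degree twelve.
-/

set_option autoImplicit false

namespace Cfsg.Agent.Solv.AltSec.Seven

/-- Generators. -/
def gA : List (List (ℕ × ℕ)) := [
  [(0, 1), (1, 2)], [(0, 1), (1, 2), (2, 3), (3, 4)]]

/-- The generators are commutators. -/
def gAComm : List (List ℕ × List ℕ × List ℕ × List ℕ) := [
  ([0, 0], [1, 1, 0, 0, 1, 0, 1], [0], [1, 1, 0, 0, 1, 0, 1]),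
  ([0], [0, 1, 0, 1], [0, 0], [1, 0, 1, 0, 0])]

theorem gA_comm : commOK 12 gA gAComm = true := by decide +kernel

/-- Generators. -/
def gB : List (List (ℕ × ℕ)) := [
  [(6, 7), (7, 8)], [(6, 7), (7, 8), (8, 9), (9, 10)]]

/-- The generators are commutators. -/
def gBComm : List (List ℕ × List ℕ × List ℕ × List ℕ) := [
  ([0, 0], [1, 1, 0, 0, 1, 0, 1], [0], [1, 1, 0, 0, 1, 0, 1]),
  ([0], [0, 1, 0, 1], [0, 0], [1, 0, 1, 0, 0])]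

theorem gB_comm : commOK 12 gB gBComm = true := by decide +kernel

/-- Generators. -/
def gD0 : List (List (ℕ × ℕ)) := [
  [(0, 1), (1, 2), (6, 7), (7, 8)],
  [(0, 1), (1, 2), (2, 3), (3, 4), (6, 7), (7, 8), (8, 9), (9, 10)]]

/-- The generators are commutators. -/
def gD0Comm : List (List ℕ × List ℕ × List ℕ × List ℕ) := [
  ([0, 0], [1, 1, 0, 0, 1, 0, 1], [0], [1, 1, 0, 0, 1, 0, 1]),
  ([0], [0, 1, 0, 1], [0, 0], [1, 0, 1, 0, 0])]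

theorem gD0_comm : commOK 12 gD0 gD0Comm = true := by decide +kernel

/-- Generators. -/
def gD1 : List (List (ℕ × ℕ)) := [
  [(0, 1), (1, 2), (6, 8), (7, 8)],
  [(0, 1), (1, 2), (2, 3), (3, 4), (6, 8), (7, 8), (8, 9), (9, 10)]]

/-- The generators are commutators. -/
def gD1Comm : List (List ℕ × List ℕ × List ℕ × List ℕ) := [
  ([0, 0], [1, 1, 0, 0, 1, 0, 1], [0], [1, 1, 0, 0, 1, 0, 1]),
  ([0], [0, 1, 0, 1], [0, 0], [1, 0, 1, 0, 0])]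

theorem gD1_comm : commOK 12 gD1 gD1Comm = true := by decide +kernel

/-- Generators. -/
def gT : List (List (ℕ × ℕ)) := [
  [(0, 1), (1, 2), (2, 3), (3, 4)], [(0, 5), (1, 4)]]

/-- The generators are commutators. -/
def gTComm : List (List ℕ × List ℕ × List ℕ × List ℕ) := [
  ([0, 0, 0], [1, 0, 0, 1, 0, 0, 0, 1], [0, 0], [1, 0, 0, 1, 0, 0, 0, 1]),
  ([0, 1, 0, 0, 0], [1, 0, 0, 0, 1, 0], [0, 0, 0, 1, 0, 1], [1, 0, 1, 0, 0, 0, 1])]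

theorem gT_comm : commOK 12 gT gTComm = true := by decide +kernel

/-- Generators of the first six-point group. -/
def gSix : List (List (ℕ × ℕ)) := [[(0, 1), (1, 2)], [(1, 2), (2, 3), (3, 4), (4, 5)]]

/-- The exchange of the two halves. -/
def tau : List (ℕ × ℕ) := [(0, 6), (1, 7), (2, 8), (3, 9), (4, 10), (5, 11)]

/-- The first block in terms of the six-point group. -/
def gAWords : List (List ℕ) := [[0], [1, 1, 0, 1, 1, 1, 0]]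

/-- Permutations moving the block. -/
def sig : List (List (ℕ × ℕ)) := [
  [(0, 5), (1, 2)], [(1, 5), (2, 3)], [(2, 5), (3, 4)], [(0, 4), (3, 5)], [(0, 1), (4, 5)], []]

/-- These in terms of the six-point group. -/
def sigWords : List (List ℕ) := [[1, 1, 1, 1, 0, 0, 1, 0], [1, 0, 0, 1, 1, 1, 0, 1, 0, 0], [0, 1, 0, 0, 1, 0, 1, 1, 0, 1, 0], [0, 0, 1, 0, 1, 0, 0], [1, 1, 1, 0, 1, 0, 0, 1], []]

/-- The elements of the block. -/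
def keys : List ℕ := [
  205163983024656, 205163983024161, 205163982766881, 205163983024386, 205163982766386,
  205163982832386, 205163982816306, 205163982766611, 205163982832176, 205163982815811,
  205163982897936, 205163982881811, 205163982885936, 205163982884931, 205163982831651,
  205163982816036, 205163982897201, 205163982881601, 205163982885636, 205163982947361,
  205163982754851, 205163982950436, 205163982758961, 205163982954561, 205163982758211,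
  205163982954756, 205163982897411, 205163982881076, 205163982946626, 205163982754626,
  205163982951426, 205163982758676, 205163982955536, 205163983015986, 205163982824451,
  205163982823476, 205163983020336, 205163982827586, 205163982828036, 205163982946836,
  205163982754356, 205163982950976, 205163983016451, 205163982824256, 205163983020051,
  205163982828576, 205163982893076, 205163982893376, 205163983012401, 205163982762561,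
  205163983016736, 205163983020801, 205163982894081, 205163983012131, 205163982762276,
  205163982962976, 205163982963201, 205163983012626, 205163982763026, 205163982962706]

/-- Words for them. -/
def keyWords : List (List ℕ) := [
  [], [0], [1], [0, 0], [1, 0], [0, 1], [1, 1], [1, 0, 0], [0, 1, 0], [1, 1, 0], [0, 0, 1],
  [1, 0, 1], [0, 1, 1], [1, 1, 1], [0, 1, 0, 0], [1, 1, 0, 0], [0, 0, 1, 0], [1, 0, 1, 0],
  [1, 1, 1, 0], [1, 0, 0, 1], [0, 1, 0, 1], [1, 1, 0, 1], [0, 0, 1, 1], [1, 0, 1, 1],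
  [0, 1, 1, 1], [1, 1, 1, 1], [0, 0, 1, 0, 0], [1, 0, 1, 0, 0], [1, 0, 0, 1, 0],
  [0, 1, 0, 1, 0], [1, 1, 0, 1, 0], [0, 1, 1, 1, 0], [1, 1, 1, 1, 0], [1, 1, 0, 0, 1],
  [0, 0, 1, 0, 1], [1, 0, 1, 0, 1], [1, 1, 1, 0, 1], [1, 0, 0, 1, 1], [1, 0, 1, 1, 1],
  [0, 1, 1, 1, 1], [0, 1, 0, 1, 0, 0], [1, 1, 0, 1, 0, 0], [1, 1, 0, 0, 1, 0],
  [0, 0, 1, 0, 1, 0], [1, 1, 1, 0, 1, 0], [1, 0, 1, 1, 1, 0], [1, 0, 0, 1, 0, 1],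
  [1, 1, 0, 1, 0, 1], [0, 1, 1, 1, 0, 1], [1, 1, 1, 1, 0, 1], [1, 0, 1, 1, 1, 1],
  [1, 1, 1, 0, 1, 0, 0], [1, 0, 0, 1, 0, 1, 0], [0, 1, 1, 1, 0, 1, 0], [1, 1, 1, 1, 0, 1, 0],
  [1, 1, 0, 0, 1, 0, 1], [1, 1, 1, 0, 1, 0, 1], [0, 1, 1, 1, 0, 1, 0, 0],
  [1, 1, 1, 1, 0, 1, 0, 0], [1, 1, 0, 0, 1, 0, 1, 0]]

/-- An element of the group ring. -/
def e1W : List (List (ℕ × ℕ) × ℤ) := [
  ([], 1), ([(2, 3), (3, 4)], 1), ([(2, 4), (3, 4)], 1), ([(1, 2), (3, 4)], 1),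
  ([(1, 2), (2, 3)], 1), ([(1, 2), (2, 4)], 1), ([(1, 3), (2, 3)], 1), ([(1, 3), (3, 4)], 1),
  ([(1, 3), (2, 4)], 1), ([(1, 4), (2, 4)], 1), ([(1, 4), (3, 4)], 1), ([(1, 4), (2, 3)], 1),
  ([(0, 1), (3, 4)], 1), ([(0, 1), (2, 3)], 1), ([(0, 1), (2, 4)], 1), ([(0, 1), (1, 2)], 1),
  ([(0, 1), (1, 2), (2, 3), (3, 4)], 1), ([(0, 1), (1, 2), (2, 4), (3, 4)], 1),
  ([(0, 1), (1, 3), (2, 3), (3, 4)], 1), ([(0, 1), (1, 3)], 1),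
  ([(0, 1), (1, 3), (2, 4), (3, 4)], 1), ([(0, 1), (1, 4), (2, 4), (3, 4)], 1),
  ([(0, 1), (1, 4)], 1), ([(0, 1), (1, 4), (2, 3), (3, 4)], 1), ([(0, 2), (1, 2)], 1),
  ([(0, 2), (1, 2), (2, 3), (3, 4)], 1), ([(0, 2), (1, 2), (2, 4), (3, 4)], 1),
  ([(0, 2), (3, 4)], 1), ([(0, 2), (2, 3)], 1), ([(0, 2), (2, 4)], 1), ([(0, 2), (1, 3)], 1),
  ([(0, 2), (1, 3), (2, 3), (3, 4)], 1), ([(0, 2), (1, 3), (2, 4), (3, 4)], 1),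
  ([(0, 2), (1, 4)], 1), ([(0, 2), (1, 4), (2, 4), (3, 4)], 1),
  ([(0, 2), (1, 4), (2, 3), (3, 4)], 1), ([(0, 3), (1, 3), (2, 3), (3, 4)], 1),
  ([(0, 3), (1, 3)], 1), ([(0, 3), (1, 3), (2, 4), (3, 4)], 1), ([(0, 3), (2, 3)], 1),
  ([(0, 3), (3, 4)], 1), ([(0, 3), (2, 4)], 1), ([(0, 3), (1, 2), (2, 3), (3, 4)], 1),
  ([(0, 3), (1, 2)], 1), ([(0, 3), (1, 2), (2, 4), (3, 4)], 1),
  ([(0, 3), (1, 4), (2, 3), (3, 4)], 1), ([(0, 3), (1, 4), (2, 4), (3, 4)], 1),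
  ([(0, 3), (1, 4)], 1), ([(0, 4), (1, 4), (2, 4), (3, 4)], 1), ([(0, 4), (1, 4)], 1),
  ([(0, 4), (1, 4), (2, 3), (3, 4)], 1), ([(0, 4), (2, 4)], 1), ([(0, 4), (3, 4)], 1),
  ([(0, 4), (2, 3)], 1), ([(0, 4), (1, 2), (2, 4), (3, 4)], 1), ([(0, 4), (1, 2)], 1),
  ([(0, 4), (1, 2), (2, 3), (3, 4)], 1), ([(0, 4), (1, 3), (2, 4), (3, 4)], 1),
  ([(0, 4), (1, 3), (2, 3), (3, 4)], 1), ([(0, 4), (1, 3)], 1)]

/-- An element of the group ring. -/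
def e1 : List (ℕ × ℤ) := ofWords 12 e1W

theorem e1_evn : Evns 12 e1 := evns_ofWords (by norm_num) (by decide +kernel)

/-- An element of the group ring. -/
def e3W : List (List (ℕ × ℕ) × ℤ) := [
  ([], 18), ([(1, 2), (3, 4)], -6), ([(1, 3), (2, 4)], -6), ([(1, 4), (2, 3)], -6),
  ([(0, 1), (3, 4)], -6), ([(0, 1), (2, 3)], -6), ([(0, 1), (2, 4)], -6),
  ([(0, 1), (1, 2), (2, 3), (3, 4)], 3), ([(0, 1), (1, 2), (2, 4), (3, 4)], 3),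
  ([(0, 1), (1, 3), (2, 3), (3, 4)], 3), ([(0, 1), (1, 3), (2, 4), (3, 4)], 3),
  ([(0, 1), (1, 4), (2, 4), (3, 4)], 3), ([(0, 1), (1, 4), (2, 3), (3, 4)], 3),
  ([(0, 2), (1, 2), (2, 3), (3, 4)], 3), ([(0, 2), (1, 2), (2, 4), (3, 4)], 3),
  ([(0, 2), (3, 4)], -6), ([(0, 2), (1, 3)], -6), ([(0, 2), (1, 3), (2, 3), (3, 4)], 3),
  ([(0, 2), (1, 3), (2, 4), (3, 4)], 3), ([(0, 2), (1, 4)], -6),
  ([(0, 2), (1, 4), (2, 4), (3, 4)], 3), ([(0, 2), (1, 4), (2, 3), (3, 4)], 3),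
  ([(0, 3), (1, 3), (2, 3), (3, 4)], 3), ([(0, 3), (1, 3), (2, 4), (3, 4)], 3),
  ([(0, 3), (2, 4)], -6), ([(0, 3), (1, 2), (2, 3), (3, 4)], 3), ([(0, 3), (1, 2)], -6),
  ([(0, 3), (1, 2), (2, 4), (3, 4)], 3), ([(0, 3), (1, 4), (2, 3), (3, 4)], 3),
  ([(0, 3), (1, 4), (2, 4), (3, 4)], 3), ([(0, 3), (1, 4)], -6),
  ([(0, 4), (1, 4), (2, 4), (3, 4)], 3), ([(0, 4), (1, 4), (2, 3), (3, 4)], 3),
  ([(0, 4), (2, 3)], -6), ([(0, 4), (1, 2), (2, 4), (3, 4)], 3), ([(0, 4), (1, 2)], -6),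
  ([(0, 4), (1, 2), (2, 3), (3, 4)], 3), ([(0, 4), (1, 3), (2, 4), (3, 4)], 3),
  ([(0, 4), (1, 3), (2, 3), (3, 4)], 3), ([(0, 4), (1, 3)], -6)]

/-- An element of the group ring. -/
def e3 : List (ℕ × ℤ) := ofWords 12 e3W

theorem e3_evn : Evns 12 e3 := evns_ofWords (by norm_num) (by decide +kernel)

/-- An element of the group ring. -/
def e3s0W : List (List (ℕ × ℕ) × ℤ) := [
  ([], 18), ([(1, 2), (3, 4)], -6), ([(1, 4), (2, 3)], -6), ([(1, 3), (2, 4)], -6),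
  ([(2, 5), (3, 4)], -6), ([(1, 3), (2, 5)], -6), ([(1, 4), (2, 5)], -6),
  ([(1, 3), (2, 3), (3, 4), (4, 5)], 3), ([(1, 4), (2, 4), (3, 5), (4, 5)], 3),
  ([(1, 5), (2, 3), (3, 4), (4, 5)], 3), ([(1, 4), (2, 3), (3, 4), (4, 5)], 3),
  ([(1, 5), (2, 4), (3, 5), (4, 5)], 3), ([(1, 3), (2, 4), (3, 5), (4, 5)], 3),
  ([(1, 3), (2, 5), (3, 4), (4, 5)], 3), ([(1, 4), (2, 5), (3, 5), (4, 5)], 3),
  ([(1, 5), (3, 4)], -6), ([(1, 5), (2, 3)], -6), ([(1, 2), (2, 3), (3, 4), (4, 5)], 3),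
  ([(1, 4), (2, 3), (3, 5), (4, 5)], 3), ([(1, 5), (2, 4)], -6),
  ([(1, 2), (2, 4), (3, 5), (4, 5)], 3), ([(1, 3), (2, 4), (3, 4), (4, 5)], 3),
  ([(1, 2), (2, 5), (3, 4), (4, 5)], 3), ([(1, 4), (2, 5), (3, 4), (4, 5)], 3),
  ([(1, 4), (3, 5)], -6), ([(1, 5), (2, 5), (3, 4), (4, 5)], 3), ([(1, 2), (3, 5)], -6),
  ([(1, 4), (2, 4), (3, 4), (4, 5)], 3), ([(1, 5), (2, 4), (3, 4), (4, 5)], 3),
  ([(1, 2), (2, 4), (3, 4), (4, 5)], 3), ([(2, 4), (3, 5)], -6),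
  ([(1, 2), (2, 5), (3, 5), (4, 5)], 3), ([(1, 3), (2, 5), (3, 5), (4, 5)], 3),
  ([(1, 3), (4, 5)], -6), ([(1, 5), (2, 5), (3, 5), (4, 5)], 3), ([(1, 2), (4, 5)], -6),
  ([(1, 3), (2, 3), (3, 5), (4, 5)], 3), ([(1, 5), (2, 3), (3, 5), (4, 5)], 3),
  ([(1, 2), (2, 3), (3, 5), (4, 5)], 3), ([(2, 3), (4, 5)], -6)]

/-- An element of the group ring. -/
def e3s0 : List (ℕ × ℤ) := ofWords 12 e3s0W

theorem e3s0_evn : Evns 12 e3s0 := evns_ofWords (by norm_num) (by decide +kernel)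

/-- An element of the group ring. -/
def e3s1W : List (List (ℕ × ℕ) × ℤ) := [
  ([], 18), ([(2, 4), (3, 5)], -6), ([(2, 5), (3, 4)], -6), ([(2, 3), (4, 5)], -6),
  ([(0, 5), (2, 4)], -6), ([(0, 5), (2, 3)], -6), ([(0, 5), (3, 4)], -6),
  ([(0, 5), (2, 4), (3, 4), (4, 5)], 3), ([(0, 5), (2, 5), (3, 4), (4, 5)], 3),
  ([(0, 5), (2, 4), (3, 5), (4, 5)], 3), ([(0, 5), (2, 3), (3, 4), (4, 5)], 3),
  ([(0, 5), (2, 3), (3, 5), (4, 5)], 3), ([(0, 5), (2, 5), (3, 5), (4, 5)], 3),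
  ([(0, 3), (2, 4), (3, 4), (4, 5)], 3), ([(0, 3), (2, 5), (3, 4), (4, 5)], 3),
  ([(0, 3), (2, 4)], -6), ([(0, 3), (2, 5)], -6), ([(0, 3), (2, 4), (3, 5), (4, 5)], 3),
  ([(0, 3), (2, 3), (3, 4), (4, 5)], 3), ([(0, 3), (4, 5)], -6),
  ([(0, 3), (2, 3), (3, 5), (4, 5)], 3), ([(0, 3), (2, 5), (3, 5), (4, 5)], 3),
  ([(0, 2), (2, 4), (3, 5), (4, 5)], 3), ([(0, 2), (2, 3), (3, 4), (4, 5)], 3),
  ([(0, 2), (3, 4)], -6), ([(0, 2), (2, 4), (3, 4), (4, 5)], 3), ([(0, 2), (3, 5)], -6),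
  ([(0, 2), (2, 5), (3, 4), (4, 5)], 3), ([(0, 2), (2, 5), (3, 5), (4, 5)], 3),
  ([(0, 2), (2, 3), (3, 5), (4, 5)], 3), ([(0, 2), (4, 5)], -6),
  ([(0, 4), (2, 3), (3, 5), (4, 5)], 3), ([(0, 4), (2, 5), (3, 5), (4, 5)], 3),
  ([(0, 4), (2, 3)], -6), ([(0, 4), (2, 5), (3, 4), (4, 5)], 3), ([(0, 4), (3, 5)], -6),
  ([(0, 4), (2, 4), (3, 4), (4, 5)], 3), ([(0, 4), (2, 3), (3, 4), (4, 5)], 3),
  ([(0, 4), (2, 4), (3, 5), (4, 5)], 3), ([(0, 4), (2, 5)], -6)]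

/-- An element of the group ring. -/
def e3s1 : List (ℕ × ℤ) := ofWords 12 e3s1W

theorem e3s1_evn : Evns 12 e3s1 := evns_ofWords (by norm_num) (by decide +kernel)

/-- An element of the group ring. -/
def e3s2W : List (List (ℕ × ℕ) × ℤ) := [
  ([], 18), ([(1, 5), (3, 4)], -6), ([(1, 4), (3, 5)], -6), ([(1, 3), (4, 5)], -6),
  ([(0, 1), (3, 4)], -6), ([(0, 1), (4, 5)], -6), ([(0, 1), (3, 5)], -6),
  ([(0, 1), (1, 5), (3, 5), (4, 5)], 3), ([(0, 1), (1, 5), (3, 4), (4, 5)], 3),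
  ([(0, 1), (1, 4), (3, 5), (4, 5)], 3), ([(0, 1), (1, 4), (3, 4), (4, 5)], 3),
  ([(0, 1), (1, 3), (3, 4), (4, 5)], 3), ([(0, 1), (1, 3), (3, 5), (4, 5)], 3),
  ([(0, 5), (1, 5), (3, 5), (4, 5)], 3), ([(0, 5), (1, 5), (3, 4), (4, 5)], 3),
  ([(0, 5), (3, 4)], -6), ([(0, 5), (1, 4)], -6), ([(0, 5), (1, 4), (3, 5), (4, 5)], 3),
  ([(0, 5), (1, 4), (3, 4), (4, 5)], 3), ([(0, 5), (1, 3)], -6),
  ([(0, 5), (1, 3), (3, 4), (4, 5)], 3), ([(0, 5), (1, 3), (3, 5), (4, 5)], 3),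
  ([(0, 4), (1, 4), (3, 5), (4, 5)], 3), ([(0, 4), (1, 4), (3, 4), (4, 5)], 3),
  ([(0, 4), (3, 5)], -6), ([(0, 4), (1, 5), (3, 5), (4, 5)], 3), ([(0, 4), (1, 5)], -6),
  ([(0, 4), (1, 5), (3, 4), (4, 5)], 3), ([(0, 4), (1, 3), (3, 5), (4, 5)], 3),
  ([(0, 4), (1, 3), (3, 4), (4, 5)], 3), ([(0, 4), (1, 3)], -6),
  ([(0, 3), (1, 3), (3, 4), (4, 5)], 3), ([(0, 3), (1, 3), (3, 5), (4, 5)], 3),
  ([(0, 3), (4, 5)], -6), ([(0, 3), (1, 5), (3, 4), (4, 5)], 3), ([(0, 3), (1, 5)], -6),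
  ([(0, 3), (1, 5), (3, 5), (4, 5)], 3), ([(0, 3), (1, 4), (3, 4), (4, 5)], 3),
  ([(0, 3), (1, 4), (3, 5), (4, 5)], 3), ([(0, 3), (1, 4)], -6)]

/-- An element of the group ring. -/
def e3s2 : List (ℕ × ℤ) := ofWords 12 e3s2W

theorem e3s2_evn : Evns 12 e3s2 := evns_ofWords (by norm_num) (by decide +kernel)

/-- An element of the group ring. -/
def e3s3W : List (List (ℕ × ℕ) × ℤ) := [
  ([], 18), ([(0, 5), (1, 2)], -6), ([(0, 2), (1, 5)], -6), ([(0, 1), (2, 5)], -6),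
  ([(0, 5), (1, 4)], -6), ([(1, 4), (2, 5)], -6), ([(0, 2), (1, 4)], -6),
  ([(0, 4), (1, 2), (2, 5), (4, 5)], 3), ([(0, 5), (1, 2), (2, 5), (4, 5)], 3),
  ([(0, 2), (1, 5), (2, 4), (4, 5)], 3), ([(0, 4), (1, 5), (2, 4), (4, 5)], 3),
  ([(0, 5), (1, 5), (2, 4), (4, 5)], 3), ([(0, 2), (1, 2), (2, 5), (4, 5)], 3),
  ([(0, 1), (1, 4), (2, 5), (4, 5)], 3), ([(0, 5), (1, 4), (2, 5), (4, 5)], 3),
  ([(0, 5), (2, 4)], -6), ([(1, 5), (2, 4)], -6), ([(0, 4), (1, 5), (2, 5), (4, 5)], 3),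
  ([(0, 1), (1, 5), (2, 5), (4, 5)], 3), ([(0, 1), (2, 4)], -6),
  ([(0, 5), (1, 5), (2, 5), (4, 5)], 3), ([(0, 4), (1, 4), (2, 5), (4, 5)], 3),
  ([(0, 2), (1, 4), (2, 4), (4, 5)], 3), ([(0, 1), (1, 4), (2, 4), (4, 5)], 3),
  ([(0, 2), (4, 5)], -6), ([(0, 1), (1, 2), (2, 4), (4, 5)], 3), ([(1, 2), (4, 5)], -6),
  ([(0, 4), (1, 2), (2, 4), (4, 5)], 3), ([(0, 2), (1, 2), (2, 4), (4, 5)], 3),
  ([(0, 4), (1, 4), (2, 4), (4, 5)], 3), ([(0, 1), (4, 5)], -6),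
  ([(0, 5), (1, 4), (2, 4), (4, 5)], 3), ([(0, 2), (1, 4), (2, 5), (4, 5)], 3),
  ([(0, 4), (2, 5)], -6), ([(0, 5), (1, 2), (2, 4), (4, 5)], 3), ([(0, 4), (1, 2)], -6),
  ([(0, 1), (1, 2), (2, 5), (4, 5)], 3), ([(0, 1), (1, 5), (2, 4), (4, 5)], 3),
  ([(0, 2), (1, 5), (2, 5), (4, 5)], 3), ([(0, 4), (1, 5)], -6)]

/-- An element of the group ring. -/
def e3s3 : List (ℕ × ℤ) := ofWords 12 e3s3W

theorem e3s3_evn : Evns 12 e3s3 := evns_ofWords (by norm_num) (by decide +kernel)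

/-- An element of the group ring. -/
def e3s4W : List (List (ℕ × ℕ) × ℤ) := [
  ([], 18), ([(0, 2), (3, 5)], -6), ([(0, 3), (2, 5)], -6), ([(0, 5), (2, 3)], -6),
  ([(0, 1), (3, 5)], -6), ([(0, 1), (2, 3)], -6), ([(0, 1), (2, 5)], -6),
  ([(0, 2), (1, 2), (2, 3), (3, 5)], 3), ([(0, 2), (1, 2), (2, 5), (3, 5)], 3),
  ([(0, 3), (1, 3), (2, 3), (3, 5)], 3), ([(0, 3), (1, 3), (2, 5), (3, 5)], 3),
  ([(0, 5), (1, 5), (2, 5), (3, 5)], 3), ([(0, 5), (1, 5), (2, 3), (3, 5)], 3),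
  ([(0, 1), (1, 2), (2, 3), (3, 5)], 3), ([(0, 1), (1, 2), (2, 5), (3, 5)], 3),
  ([(1, 2), (3, 5)], -6), ([(0, 3), (1, 2)], -6), ([(0, 3), (1, 2), (2, 3), (3, 5)], 3),
  ([(0, 3), (1, 2), (2, 5), (3, 5)], 3), ([(0, 5), (1, 2)], -6),
  ([(0, 5), (1, 2), (2, 5), (3, 5)], 3), ([(0, 5), (1, 2), (2, 3), (3, 5)], 3),
  ([(0, 1), (1, 3), (2, 3), (3, 5)], 3), ([(0, 1), (1, 3), (2, 5), (3, 5)], 3),
  ([(1, 3), (2, 5)], -6), ([(0, 2), (1, 3), (2, 3), (3, 5)], 3), ([(0, 2), (1, 3)], -6),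
  ([(0, 2), (1, 3), (2, 5), (3, 5)], 3), ([(0, 5), (1, 3), (2, 3), (3, 5)], 3),
  ([(0, 5), (1, 3), (2, 5), (3, 5)], 3), ([(0, 5), (1, 3)], -6),
  ([(0, 1), (1, 5), (2, 5), (3, 5)], 3), ([(0, 1), (1, 5), (2, 3), (3, 5)], 3),
  ([(1, 5), (2, 3)], -6), ([(0, 2), (1, 5), (2, 5), (3, 5)], 3), ([(0, 2), (1, 5)], -6),
  ([(0, 2), (1, 5), (2, 3), (3, 5)], 3), ([(0, 3), (1, 5), (2, 5), (3, 5)], 3),
  ([(0, 3), (1, 5), (2, 3), (3, 5)], 3), ([(0, 3), (1, 5)], -6)]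

/-- An element of the group ring. -/
def e3s4 : List (ℕ × ℤ) := ofWords 12 e3s4W

theorem e3s4_evn : Evns 12 e3s4 := evns_ofWords (by norm_num) (by decide +kernel)

/-- An element of the group ring. -/
def e4W : List (List (ℕ × ℕ) × ℤ) := [
  ([], 16), ([(2, 3), (3, 4)], 4), ([(2, 4), (3, 4)], 4), ([(1, 2), (2, 3)], 4),
  ([(1, 2), (2, 4)], 4), ([(1, 3), (2, 3)], 4), ([(1, 3), (3, 4)], 4), ([(1, 4), (2, 4)], 4),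
  ([(1, 4), (3, 4)], 4), ([(0, 1), (1, 2)], 4), ([(0, 1), (1, 2), (2, 3), (3, 4)], -4),
  ([(0, 1), (1, 2), (2, 4), (3, 4)], -4), ([(0, 1), (1, 3), (2, 3), (3, 4)], -4),
  ([(0, 1), (1, 3)], 4), ([(0, 1), (1, 3), (2, 4), (3, 4)], -4),
  ([(0, 1), (1, 4), (2, 4), (3, 4)], -4), ([(0, 1), (1, 4)], 4),
  ([(0, 1), (1, 4), (2, 3), (3, 4)], -4), ([(0, 2), (1, 2)], 4),
  ([(0, 2), (1, 2), (2, 3), (3, 4)], -4), ([(0, 2), (1, 2), (2, 4), (3, 4)], -4),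
  ([(0, 2), (2, 3)], 4), ([(0, 2), (2, 4)], 4), ([(0, 2), (1, 3), (2, 3), (3, 4)], -4),
  ([(0, 2), (1, 3), (2, 4), (3, 4)], -4), ([(0, 2), (1, 4), (2, 4), (3, 4)], -4),
  ([(0, 2), (1, 4), (2, 3), (3, 4)], -4), ([(0, 3), (1, 3), (2, 3), (3, 4)], -4),
  ([(0, 3), (1, 3)], 4), ([(0, 3), (1, 3), (2, 4), (3, 4)], -4), ([(0, 3), (2, 3)], 4),
  ([(0, 3), (3, 4)], 4), ([(0, 3), (1, 2), (2, 3), (3, 4)], -4),
  ([(0, 3), (1, 2), (2, 4), (3, 4)], -4), ([(0, 3), (1, 4), (2, 3), (3, 4)], -4),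
  ([(0, 3), (1, 4), (2, 4), (3, 4)], -4), ([(0, 4), (1, 4), (2, 4), (3, 4)], -4),
  ([(0, 4), (1, 4)], 4), ([(0, 4), (1, 4), (2, 3), (3, 4)], -4), ([(0, 4), (2, 4)], 4),
  ([(0, 4), (3, 4)], 4), ([(0, 4), (1, 2), (2, 4), (3, 4)], -4),
  ([(0, 4), (1, 2), (2, 3), (3, 4)], -4), ([(0, 4), (1, 3), (2, 4), (3, 4)], -4),
  ([(0, 4), (1, 3), (2, 3), (3, 4)], -4)]

/-- An element of the group ring. -/
def e4 : List (ℕ × ℤ) := ofWords 12 e4W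

theorem e4_evn : Evns 12 e4 := evns_ofWords (by norm_num) (by decide +kernel)

/-- An element of the group ring. -/
def e4s0W : List (List (ℕ × ℕ) × ℤ) := [
  ([], 16), ([(1, 3), (3, 4)], 4), ([(1, 4), (3, 4)], 4), ([(1, 3), (2, 3)], 4),
  ([(1, 4), (2, 4)], 4), ([(1, 2), (2, 3)], 4), ([(2, 3), (3, 4)], 4), ([(1, 2), (2, 4)], 4),
  ([(2, 4), (3, 4)], 4), ([(1, 5), (2, 5)], 4), ([(1, 3), (2, 3), (3, 4), (4, 5)], -4),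
  ([(1, 4), (2, 4), (3, 5), (4, 5)], -4), ([(1, 5), (2, 3), (3, 4), (4, 5)], -4),
  ([(2, 3), (3, 5)], 4), ([(1, 4), (2, 3), (3, 4), (4, 5)], -4),
  ([(1, 5), (2, 4), (3, 5), (4, 5)], -4), ([(2, 4), (4, 5)], 4),
  ([(1, 3), (2, 4), (3, 5), (4, 5)], -4), ([(1, 2), (2, 5)], 4),
  ([(1, 3), (2, 5), (3, 4), (4, 5)], -4), ([(1, 4), (2, 5), (3, 5), (4, 5)], -4),
  ([(1, 3), (3, 5)], 4), ([(1, 4), (4, 5)], 4), ([(1, 2), (2, 3), (3, 4), (4, 5)], -4),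
  ([(1, 4), (2, 3), (3, 5), (4, 5)], -4), ([(1, 2), (2, 4), (3, 5), (4, 5)], -4),
  ([(1, 3), (2, 4), (3, 4), (4, 5)], -4), ([(1, 2), (2, 5), (3, 4), (4, 5)], -4),
  ([(2, 5), (3, 5)], 4), ([(1, 4), (2, 5), (3, 4), (4, 5)], -4), ([(1, 5), (3, 5)], 4),
  ([(3, 4), (4, 5)], 4), ([(1, 5), (2, 5), (3, 4), (4, 5)], -4),
  ([(1, 4), (2, 4), (3, 4), (4, 5)], -4), ([(1, 5), (2, 4), (3, 4), (4, 5)], -4),
  ([(1, 2), (2, 4), (3, 4), (4, 5)], -4), ([(1, 2), (2, 5), (3, 5), (4, 5)], -4),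
  ([(2, 5), (4, 5)], 4), ([(1, 3), (2, 5), (3, 5), (4, 5)], -4), ([(1, 5), (4, 5)], 4),
  ([(3, 5), (4, 5)], 4), ([(1, 5), (2, 5), (3, 5), (4, 5)], -4),
  ([(1, 3), (2, 3), (3, 5), (4, 5)], -4), ([(1, 5), (2, 3), (3, 5), (4, 5)], -4),
  ([(1, 2), (2, 3), (3, 5), (4, 5)], -4)]

/-- An element of the group ring. -/
def e4s0 : List (ℕ × ℤ) := ofWords 12 e4s0W

theorem e4s0_evn : Evns 12 e4s0 := evns_ofWords (by norm_num) (by decide +kernel)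

/-- An element of the group ring. -/
def e4s1W : List (List (ℕ × ℕ) × ℤ) := [
  ([], 16), ([(2, 4), (3, 4)], 4), ([(2, 3), (3, 4)], 4), ([(2, 5), (3, 5)], 4),
  ([(3, 4), (4, 5)], 4), ([(2, 3), (3, 5)], 4), ([(2, 4), (4, 5)], 4), ([(3, 5), (4, 5)], 4),
  ([(2, 5), (4, 5)], 4), ([(0, 5), (3, 5)], 4), ([(0, 5), (2, 4), (3, 4), (4, 5)], -4),
  ([(0, 5), (2, 5), (3, 4), (4, 5)], -4), ([(0, 5), (2, 4), (3, 5), (4, 5)], -4),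
  ([(0, 5), (2, 5)], 4), ([(0, 5), (2, 3), (3, 4), (4, 5)], -4),
  ([(0, 5), (2, 3), (3, 5), (4, 5)], -4), ([(0, 5), (4, 5)], 4),
  ([(0, 5), (2, 5), (3, 5), (4, 5)], -4), ([(0, 3), (3, 5)], 4),
  ([(0, 3), (2, 4), (3, 4), (4, 5)], -4), ([(0, 3), (2, 5), (3, 4), (4, 5)], -4),
  ([(0, 3), (2, 3)], 4), ([(0, 3), (3, 4)], 4), ([(0, 3), (2, 4), (3, 5), (4, 5)], -4),
  ([(0, 3), (2, 3), (3, 4), (4, 5)], -4), ([(0, 3), (2, 3), (3, 5), (4, 5)], -4),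
  ([(0, 3), (2, 5), (3, 5), (4, 5)], -4), ([(0, 2), (2, 4), (3, 5), (4, 5)], -4),
  ([(0, 2), (2, 5)], 4), ([(0, 2), (2, 3), (3, 4), (4, 5)], -4), ([(0, 2), (2, 3)], 4),
  ([(0, 2), (2, 4)], 4), ([(0, 2), (2, 4), (3, 4), (4, 5)], -4),
  ([(0, 2), (2, 5), (3, 4), (4, 5)], -4), ([(0, 2), (2, 5), (3, 5), (4, 5)], -4),
  ([(0, 2), (2, 3), (3, 5), (4, 5)], -4), ([(0, 4), (2, 3), (3, 5), (4, 5)], -4),
  ([(0, 4), (4, 5)], 4), ([(0, 4), (2, 5), (3, 5), (4, 5)], -4), ([(0, 4), (3, 4)], 4),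
  ([(0, 4), (2, 4)], 4), ([(0, 4), (2, 5), (3, 4), (4, 5)], -4),
  ([(0, 4), (2, 4), (3, 4), (4, 5)], -4), ([(0, 4), (2, 3), (3, 4), (4, 5)], -4),
  ([(0, 4), (2, 4), (3, 5), (4, 5)], -4)]

/-- An element of the group ring. -/
def e4s1 : List (ℕ × ℤ) := ofWords 12 e4s1W

theorem e4s1_evn : Evns 12 e4s1 := evns_ofWords (by norm_num) (by decide +kernel)

/-- An element of the group ring. -/
def e4s2W : List (List (ℕ × ℕ) × ℤ) := [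
  ([], 16), ([(3, 5), (4, 5)], 4), ([(3, 4), (4, 5)], 4), ([(1, 5), (4, 5)], 4),
  ([(1, 5), (3, 5)], 4), ([(1, 4), (4, 5)], 4), ([(1, 4), (3, 4)], 4), ([(1, 3), (3, 5)], 4),
  ([(1, 3), (3, 4)], 4), ([(0, 1), (1, 5)], 4), ([(0, 1), (1, 5), (3, 5), (4, 5)], -4),
  ([(0, 1), (1, 5), (3, 4), (4, 5)], -4), ([(0, 1), (1, 4), (3, 5), (4, 5)], -4),
  ([(0, 1), (1, 4)], 4), ([(0, 1), (1, 4), (3, 4), (4, 5)], -4),
  ([(0, 1), (1, 3), (3, 4), (4, 5)], -4), ([(0, 1), (1, 3)], 4),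
  ([(0, 1), (1, 3), (3, 5), (4, 5)], -4), ([(0, 5), (1, 5)], 4),
  ([(0, 5), (1, 5), (3, 5), (4, 5)], -4), ([(0, 5), (1, 5), (3, 4), (4, 5)], -4),
  ([(0, 5), (4, 5)], 4), ([(0, 5), (3, 5)], 4), ([(0, 5), (1, 4), (3, 5), (4, 5)], -4),
  ([(0, 5), (1, 4), (3, 4), (4, 5)], -4), ([(0, 5), (1, 3), (3, 4), (4, 5)], -4),
  ([(0, 5), (1, 3), (3, 5), (4, 5)], -4), ([(0, 4), (1, 4), (3, 5), (4, 5)], -4),
  ([(0, 4), (1, 4)], 4), ([(0, 4), (1, 4), (3, 4), (4, 5)], -4), ([(0, 4), (4, 5)], 4),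
  ([(0, 4), (3, 4)], 4), ([(0, 4), (1, 5), (3, 5), (4, 5)], -4),
  ([(0, 4), (1, 5), (3, 4), (4, 5)], -4), ([(0, 4), (1, 3), (3, 5), (4, 5)], -4),
  ([(0, 4), (1, 3), (3, 4), (4, 5)], -4), ([(0, 3), (1, 3), (3, 4), (4, 5)], -4),
  ([(0, 3), (1, 3)], 4), ([(0, 3), (1, 3), (3, 5), (4, 5)], -4), ([(0, 3), (3, 5)], 4),
  ([(0, 3), (3, 4)], 4), ([(0, 3), (1, 5), (3, 4), (4, 5)], -4),
  ([(0, 3), (1, 5), (3, 5), (4, 5)], -4), ([(0, 3), (1, 4), (3, 4), (4, 5)], -4),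
  ([(0, 3), (1, 4), (3, 5), (4, 5)], -4)]

/-- An element of the group ring. -/
def e4s2 : List (ℕ × ℤ) := ofWords 12 e4s2W

theorem e4s2_evn : Evns 12 e4s2 := evns_ofWords (by norm_num) (by decide +kernel)

/-- An element of the group ring. -/
def e4s3W : List (List (ℕ × ℕ) × ℤ) := [
  ([], 16), ([(0, 2), (2, 5)], 4), ([(0, 5), (2, 5)], 4), ([(1, 2), (2, 5)], 4),
  ([(0, 1), (1, 2)], 4), ([(1, 5), (2, 5)], 4), ([(0, 1), (1, 5)], 4), ([(0, 2), (1, 2)], 4),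
  ([(0, 5), (1, 5)], 4), ([(1, 2), (2, 4)], 4), ([(0, 4), (1, 2), (2, 5), (4, 5)], -4),
  ([(0, 5), (1, 2), (2, 5), (4, 5)], -4), ([(0, 2), (1, 5), (2, 4), (4, 5)], -4),
  ([(1, 5), (4, 5)], 4), ([(0, 4), (1, 5), (2, 4), (4, 5)], -4),
  ([(0, 5), (1, 5), (2, 4), (4, 5)], -4), ([(0, 4), (1, 4)], 4),
  ([(0, 2), (1, 2), (2, 5), (4, 5)], -4), ([(1, 4), (2, 4)], 4),
  ([(0, 1), (1, 4), (2, 5), (4, 5)], -4), ([(0, 5), (1, 4), (2, 5), (4, 5)], -4),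
  ([(2, 5), (4, 5)], 4), ([(0, 4), (2, 4)], 4), ([(0, 4), (1, 5), (2, 5), (4, 5)], -4),
  ([(0, 1), (1, 5), (2, 5), (4, 5)], -4), ([(0, 5), (1, 5), (2, 5), (4, 5)], -4),
  ([(0, 4), (1, 4), (2, 5), (4, 5)], -4), ([(0, 2), (1, 4), (2, 4), (4, 5)], -4),
  ([(1, 4), (4, 5)], 4), ([(0, 1), (1, 4), (2, 4), (4, 5)], -4), ([(2, 4), (4, 5)], 4),
  ([(0, 4), (4, 5)], 4), ([(0, 1), (1, 2), (2, 4), (4, 5)], -4),
  ([(0, 4), (1, 2), (2, 4), (4, 5)], -4), ([(0, 2), (1, 2), (2, 4), (4, 5)], -4),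
  ([(0, 4), (1, 4), (2, 4), (4, 5)], -4), ([(0, 5), (1, 4), (2, 4), (4, 5)], -4),
  ([(0, 1), (1, 4)], 4), ([(0, 2), (1, 4), (2, 5), (4, 5)], -4), ([(0, 2), (2, 4)], 4),
  ([(0, 5), (4, 5)], 4), ([(0, 5), (1, 2), (2, 4), (4, 5)], -4),
  ([(0, 1), (1, 2), (2, 5), (4, 5)], -4), ([(0, 1), (1, 5), (2, 4), (4, 5)], -4),
  ([(0, 2), (1, 5), (2, 5), (4, 5)], -4)]

/-- An element of the group ring. -/
def e4s3 : List (ℕ × ℤ) := ofWords 12 e4s3W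

theorem e4s3_evn : Evns 12 e4s3 := evns_ofWords (by norm_num) (by decide +kernel)

/-- An element of the group ring. -/
def e4s4W : List (List (ℕ × ℕ) × ℤ) := [
  ([], 16), ([(2, 3), (3, 5)], 4), ([(2, 5), (3, 5)], 4), ([(0, 2), (2, 3)], 4),
  ([(0, 2), (2, 5)], 4), ([(0, 3), (2, 3)], 4), ([(0, 3), (3, 5)], 4), ([(0, 5), (2, 5)], 4),
  ([(0, 5), (3, 5)], 4), ([(0, 2), (1, 2)], 4), ([(0, 2), (1, 2), (2, 3), (3, 5)], -4),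
  ([(0, 2), (1, 2), (2, 5), (3, 5)], -4), ([(0, 3), (1, 3), (2, 3), (3, 5)], -4),
  ([(0, 3), (1, 3)], 4), ([(0, 3), (1, 3), (2, 5), (3, 5)], -4),
  ([(0, 5), (1, 5), (2, 5), (3, 5)], -4), ([(0, 5), (1, 5)], 4),
  ([(0, 5), (1, 5), (2, 3), (3, 5)], -4), ([(0, 1), (1, 2)], 4),
  ([(0, 1), (1, 2), (2, 3), (3, 5)], -4), ([(0, 1), (1, 2), (2, 5), (3, 5)], -4),
  ([(1, 2), (2, 3)], 4), ([(1, 2), (2, 5)], 4), ([(0, 3), (1, 2), (2, 3), (3, 5)], -4),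
  ([(0, 3), (1, 2), (2, 5), (3, 5)], -4), ([(0, 5), (1, 2), (2, 5), (3, 5)], -4),
  ([(0, 5), (1, 2), (2, 3), (3, 5)], -4), ([(0, 1), (1, 3), (2, 3), (3, 5)], -4),
  ([(0, 1), (1, 3)], 4), ([(0, 1), (1, 3), (2, 5), (3, 5)], -4), ([(1, 3), (2, 3)], 4),
  ([(1, 3), (3, 5)], 4), ([(0, 2), (1, 3), (2, 3), (3, 5)], -4),
  ([(0, 2), (1, 3), (2, 5), (3, 5)], -4), ([(0, 5), (1, 3), (2, 3), (3, 5)], -4),
  ([(0, 5), (1, 3), (2, 5), (3, 5)], -4), ([(0, 1), (1, 5), (2, 5), (3, 5)], -4),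
  ([(0, 1), (1, 5)], 4), ([(0, 1), (1, 5), (2, 3), (3, 5)], -4), ([(1, 5), (2, 5)], 4),
  ([(1, 5), (3, 5)], 4), ([(0, 2), (1, 5), (2, 5), (3, 5)], -4),
  ([(0, 2), (1, 5), (2, 3), (3, 5)], -4), ([(0, 3), (1, 5), (2, 5), (3, 5)], -4),
  ([(0, 3), (1, 5), (2, 3), (3, 5)], -4)]

/-- An element of the group ring. -/
def e4s4 : List (ℕ × ℤ) := ofWords 12 e4s4W

theorem e4s4_evn : Evns 12 e4s4 := evns_ofWords (by norm_num) (by decide +kernel)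

/-- An element of the group ring. -/
def e5W : List (List (ℕ × ℕ) × ℤ) := [
  ([], 25), ([(2, 3), (3, 4)], -5), ([(2, 4), (3, 4)], -5), ([(1, 2), (3, 4)], 5),
  ([(1, 2), (2, 3)], -5), ([(1, 2), (2, 4)], -5), ([(1, 3), (2, 3)], -5),
  ([(1, 3), (3, 4)], -5), ([(1, 3), (2, 4)], 5), ([(1, 4), (2, 4)], -5), ([(1, 4), (3, 4)], -5),
  ([(1, 4), (2, 3)], 5), ([(0, 1), (3, 4)], 5), ([(0, 1), (2, 3)], 5), ([(0, 1), (2, 4)], 5),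
  ([(0, 1), (1, 2)], -5), ([(0, 1), (1, 3)], -5), ([(0, 1), (1, 4)], -5),
  ([(0, 2), (1, 2)], -5), ([(0, 2), (3, 4)], 5), ([(0, 2), (2, 3)], -5), ([(0, 2), (2, 4)], -5),
  ([(0, 2), (1, 3)], 5), ([(0, 2), (1, 4)], 5), ([(0, 3), (1, 3)], -5), ([(0, 3), (2, 3)], -5),
  ([(0, 3), (3, 4)], -5), ([(0, 3), (2, 4)], 5), ([(0, 3), (1, 2)], 5), ([(0, 3), (1, 4)], 5),
  ([(0, 4), (1, 4)], -5), ([(0, 4), (2, 4)], -5), ([(0, 4), (3, 4)], -5), ([(0, 4), (2, 3)], 5),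
  ([(0, 4), (1, 2)], 5), ([(0, 4), (1, 3)], 5)]

/-- An element of the group ring. -/
def e5 : List (ℕ × ℤ) := ofWords 12 e5W

theorem e5_evn : Evns 12 e5 := evns_ofWords (by norm_num) (by decide +kernel)

/-- An element of the group ring. -/
def e5s0W : List (List (ℕ × ℕ) × ℤ) := [
  ([], 25), ([(1, 3), (3, 4)], -5), ([(1, 4), (3, 4)], -5), ([(1, 2), (3, 4)], 5),
  ([(1, 3), (2, 3)], -5), ([(1, 4), (2, 4)], -5), ([(1, 2), (2, 3)], -5),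
  ([(2, 3), (3, 4)], -5), ([(1, 4), (2, 3)], 5), ([(1, 2), (2, 4)], -5), ([(2, 4), (3, 4)], -5),
  ([(1, 3), (2, 4)], 5), ([(2, 5), (3, 4)], 5), ([(1, 3), (2, 5)], 5), ([(1, 4), (2, 5)], 5),
  ([(1, 5), (2, 5)], -5), ([(2, 3), (3, 5)], -5), ([(2, 4), (4, 5)], -5),
  ([(1, 2), (2, 5)], -5), ([(1, 5), (3, 4)], 5), ([(1, 3), (3, 5)], -5), ([(1, 4), (4, 5)], -5),
  ([(1, 5), (2, 3)], 5), ([(1, 5), (2, 4)], 5), ([(2, 5), (3, 5)], -5), ([(1, 5), (3, 5)], -5),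
  ([(3, 4), (4, 5)], -5), ([(1, 4), (3, 5)], 5), ([(1, 2), (3, 5)], 5), ([(2, 4), (3, 5)], 5),
  ([(2, 5), (4, 5)], -5), ([(1, 5), (4, 5)], -5), ([(3, 5), (4, 5)], -5), ([(1, 3), (4, 5)], 5),
  ([(1, 2), (4, 5)], 5), ([(2, 3), (4, 5)], 5)]

/-- An element of the group ring. -/
def e5s0 : List (ℕ × ℤ) := ofWords 12 e5s0W

theorem e5s0_evn : Evns 12 e5s0 := evns_ofWords (by norm_num) (by decide +kernel)

/-- An element of the group ring. -/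
def e5s1W : List (List (ℕ × ℕ) × ℤ) := [
  ([], 25), ([(2, 4), (3, 4)], -5), ([(2, 3), (3, 4)], -5), ([(2, 4), (3, 5)], 5),
  ([(2, 5), (3, 5)], -5), ([(3, 4), (4, 5)], -5), ([(2, 3), (3, 5)], -5),
  ([(2, 4), (4, 5)], -5), ([(2, 5), (3, 4)], 5), ([(3, 5), (4, 5)], -5), ([(2, 5), (4, 5)], -5),
  ([(2, 3), (4, 5)], 5), ([(0, 5), (2, 4)], 5), ([(0, 5), (2, 3)], 5), ([(0, 5), (3, 4)], 5),
  ([(0, 5), (3, 5)], -5), ([(0, 5), (2, 5)], -5), ([(0, 5), (4, 5)], -5),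
  ([(0, 3), (3, 5)], -5), ([(0, 3), (2, 4)], 5), ([(0, 3), (2, 3)], -5), ([(0, 3), (3, 4)], -5),
  ([(0, 3), (2, 5)], 5), ([(0, 3), (4, 5)], 5), ([(0, 2), (2, 5)], -5), ([(0, 2), (2, 3)], -5),
  ([(0, 2), (2, 4)], -5), ([(0, 2), (3, 4)], 5), ([(0, 2), (3, 5)], 5), ([(0, 2), (4, 5)], 5),
  ([(0, 4), (4, 5)], -5), ([(0, 4), (3, 4)], -5), ([(0, 4), (2, 4)], -5), ([(0, 4), (2, 3)], 5),
  ([(0, 4), (3, 5)], 5), ([(0, 4), (2, 5)], 5)]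

/-- An element of the group ring. -/
def e5s1 : List (ℕ × ℤ) := ofWords 12 e5s1W

theorem e5s1_evn : Evns 12 e5s1 := evns_ofWords (by norm_num) (by decide +kernel)

/-- An element of the group ring. -/
def e5s2W : List (List (ℕ × ℕ) × ℤ) := [
  ([], 25), ([(3, 5), (4, 5)], -5), ([(3, 4), (4, 5)], -5), ([(1, 5), (3, 4)], 5),
  ([(1, 5), (4, 5)], -5), ([(1, 5), (3, 5)], -5), ([(1, 4), (4, 5)], -5),
  ([(1, 4), (3, 4)], -5), ([(1, 4), (3, 5)], 5), ([(1, 3), (3, 5)], -5), ([(1, 3), (3, 4)], -5),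
  ([(1, 3), (4, 5)], 5), ([(0, 1), (3, 4)], 5), ([(0, 1), (4, 5)], 5), ([(0, 1), (3, 5)], 5),
  ([(0, 1), (1, 5)], -5), ([(0, 1), (1, 4)], -5), ([(0, 1), (1, 3)], -5),
  ([(0, 5), (1, 5)], -5), ([(0, 5), (3, 4)], 5), ([(0, 5), (4, 5)], -5), ([(0, 5), (3, 5)], -5),
  ([(0, 5), (1, 4)], 5), ([(0, 5), (1, 3)], 5), ([(0, 4), (1, 4)], -5), ([(0, 4), (4, 5)], -5),
  ([(0, 4), (3, 4)], -5), ([(0, 4), (3, 5)], 5), ([(0, 4), (1, 5)], 5), ([(0, 4), (1, 3)], 5),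
  ([(0, 3), (1, 3)], -5), ([(0, 3), (3, 5)], -5), ([(0, 3), (3, 4)], -5), ([(0, 3), (4, 5)], 5),
  ([(0, 3), (1, 5)], 5), ([(0, 3), (1, 4)], 5)]

/-- An element of the group ring. -/
def e5s2 : List (ℕ × ℤ) := ofWords 12 e5s2W

theorem e5s2_evn : Evns 12 e5s2 := evns_ofWords (by norm_num) (by decide +kernel)

/-- An element of the group ring. -/
def e5s3W : List (List (ℕ × ℕ) × ℤ) := [
  ([], 25), ([(0, 2), (2, 5)], -5), ([(0, 5), (2, 5)], -5), ([(0, 5), (1, 2)], 5),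
  ([(1, 2), (2, 5)], -5), ([(0, 1), (1, 2)], -5), ([(1, 5), (2, 5)], -5),
  ([(0, 1), (1, 5)], -5), ([(0, 2), (1, 5)], 5), ([(0, 2), (1, 2)], -5), ([(0, 5), (1, 5)], -5),
  ([(0, 1), (2, 5)], 5), ([(0, 5), (1, 4)], 5), ([(1, 4), (2, 5)], 5), ([(0, 2), (1, 4)], 5),
  ([(1, 2), (2, 4)], -5), ([(1, 5), (4, 5)], -5), ([(0, 4), (1, 4)], -5),
  ([(1, 4), (2, 4)], -5), ([(0, 5), (2, 4)], 5), ([(2, 5), (4, 5)], -5), ([(0, 4), (2, 4)], -5),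
  ([(1, 5), (2, 4)], 5), ([(0, 1), (2, 4)], 5), ([(1, 4), (4, 5)], -5), ([(2, 4), (4, 5)], -5),
  ([(0, 4), (4, 5)], -5), ([(0, 2), (4, 5)], 5), ([(1, 2), (4, 5)], 5), ([(0, 1), (4, 5)], 5),
  ([(0, 1), (1, 4)], -5), ([(0, 2), (2, 4)], -5), ([(0, 5), (4, 5)], -5), ([(0, 4), (2, 5)], 5),
  ([(0, 4), (1, 2)], 5), ([(0, 4), (1, 5)], 5)]

/-- An element of the group ring. -/
def e5s3 : List (ℕ × ℤ) := ofWords 12 e5s3W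

theorem e5s3_evn : Evns 12 e5s3 := evns_ofWords (by norm_num) (by decide +kernel)

/-- An element of the group ring. -/
def e5s4W : List (List (ℕ × ℕ) × ℤ) := [
  ([], 25), ([(2, 3), (3, 5)], -5), ([(2, 5), (3, 5)], -5), ([(0, 2), (3, 5)], 5),
  ([(0, 2), (2, 3)], -5), ([(0, 2), (2, 5)], -5), ([(0, 3), (2, 3)], -5),
  ([(0, 3), (3, 5)], -5), ([(0, 3), (2, 5)], 5), ([(0, 5), (2, 5)], -5), ([(0, 5), (3, 5)], -5),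
  ([(0, 5), (2, 3)], 5), ([(0, 1), (3, 5)], 5), ([(0, 1), (2, 3)], 5), ([(0, 1), (2, 5)], 5),
  ([(0, 2), (1, 2)], -5), ([(0, 3), (1, 3)], -5), ([(0, 5), (1, 5)], -5),
  ([(0, 1), (1, 2)], -5), ([(1, 2), (3, 5)], 5), ([(1, 2), (2, 3)], -5), ([(1, 2), (2, 5)], -5),
  ([(0, 3), (1, 2)], 5), ([(0, 5), (1, 2)], 5), ([(0, 1), (1, 3)], -5), ([(1, 3), (2, 3)], -5),
  ([(1, 3), (3, 5)], -5), ([(1, 3), (2, 5)], 5), ([(0, 2), (1, 3)], 5), ([(0, 5), (1, 3)], 5),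
  ([(0, 1), (1, 5)], -5), ([(1, 5), (2, 5)], -5), ([(1, 5), (3, 5)], -5), ([(1, 5), (2, 3)], 5),
  ([(0, 2), (1, 5)], 5), ([(0, 3), (1, 5)], 5)]

/-- An element of the group ring. -/
def e5s4 : List (ℕ × ℤ) := ofWords 12 e5s4W

theorem e5s4_evn : Evns 12 e5s4 := evns_ofWords (by norm_num) (by decide +kernel)

end Cfsg.Agent.Solv.AltSec.Seven
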