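import Cfsg.Agent.Lib.Solv.AltSec.Seven.Cases

/-!
A module of the alternating group of degree twelve without torsion at two, three and five contains a
nonzero vector fixed by a nonsolvable subgroup.
-/

set_option autoImplicit false
set_option linter.style.haveILetI false

namespace Cfsg.Agent.Solv.AltSec.Seven

/-- The exchange of the halves. -/
noncomputable def tt : alternatingGroup (Fin 12) := el 12 (wcode 12 tau)

/-- The group on the first half. -/
noncomputable def H1 : Subgroup (alternatingGroup (Fin 12)) :=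
  Subgroup.closure {x | ∃ g ∈ gSix, x = el 12 (wcode 12 g)}

/-- The checks on an operator. -/
def opFacts (O : List (ℕ × ℤ)) : Bool :=
  gA.all (fun g => conjOK 12 0 g O O) && opEq 0 keys (mulOp 12 O O) (scale 60 O) &&
    O.all (fun q => keys.contains q.1)

/-- The eigen conditions on the product follow from those on the factors. -/
def glueOK (wG pG : List (List (ℕ × ℕ) × ℤ)) : Bool :=
  wG.all (fun g => wordOK 12 g.1 && keys.contains (wcode 12 g.1)) && pG.all fun g => wordOK 12 g.1 &&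
    (wG.contains g || wG.any fun h => h.2 == g.2 &&
      Nat.beq (comp 12 (wcode 12 tau) (comp 12 (wcode 12 h.1) (wcode 12 tau))) (wcode 12 g.1))

theorem data_facts :
    wordOK 12 tau = true ∧ comp 12 (wcode 12 tau) (wcode 12 tau) = idCode 12 ∧ gSix.all (wordOK 12) = true ∧
    gA.all (wordOK 12) = true ∧
    (gSix.all fun g => gSix.all fun g' =>
      Nat.beq (comp 12 (wcode 12 g) (comp 12 (wcode 12 tau) (comp 12 (wcode 12 g') (wcode 12 tau))))
        (comp 12 (comp 12 (wcode 12 tau) (comp 12 (wcode 12 g') (wcode 12 tau))) (wcode 12 g))) = true ∧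
    (gA.map (wcode 12) == gAWords.map (evalW 12 gSix)) = true ∧
    (sig.map (wcode 12) == sigWords.map (evalW 12 gSix)) = true ∧ sig.all (wordOK 12) = true ∧
    (keys == keyWords.map (evalW 12 gA)) = true := by decide +kernel

theorem e3_facts : opFacts e3 = true ∧ glueOK e3wGens e3pGens = true ∧
    conjOK 12 0 (sig.getD 0 []) e3 e3s0 = true := by decide +kernel

theorem e4_facts : opFacts e4 = true ∧ glueOK e4wGens e4pGens = true ∧
    conjOK 12 0 (sig.getD 0 []) e4 e4s0 = true ∧ conjOK 12 0 (sig.getD 4 []) e4 e4s4 = true ∧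
    conjOK 12 0 tau e4q e4 = true := by decide +kernel

theorem e5_facts : opFacts e5 = true ∧ glueOK e5wGens e5pGens = true ∧
    conjOK 12 0 (sig.getD 0 []) e5 e5s0 = true ∧ conjOK 12 0 tau e5q e5 = true := by decide +kernel

theorem sum_facts : opEq 0 keys (e1 ++ (e3 ++ (e4 ++ e5))) [(idCode 12, 60)] = true ∧
    (gA.all fun g => wordOK 12 g && opEq 0 keys (lmulOp 12 (wcode 12 g) e1) e1) = true := by decide +kernel

theorem hn : 12 ≤ 16 := by norm_num

theorem tt_sq : tt * tt = 1 := by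
  have hτ := evn_wcode hn data_facts.1
  rw [tt, ← (hτ.comp hn hτ).2, data_facts.2.1, (evn_id hn).2]

theorem tt_conj_mul (a b : alternatingGroup (Fin 12)) : tt * (a * b) * tt = (tt * a * tt) * (tt * b * tt) := by
  calc tt * (a * b) * tt = tt * a * (tt * tt) * b * tt := by rw [tt_sq, mul_one, mul_assoc tt a b]
    _ = (tt * a * tt) * (tt * b * tt) := by simp only [mul_assoc]

theorem commute_halves {h h' : alternatingGroup (Fin 12)} (hh : h ∈ H1) (hh' : h' ∈ H1) :
    Commute h (tt * h' * tt) := by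
  obtain ⟨hτ, -, hG, -, hc, -⟩ := data_facts
  have eτ := evn_wcode hn hτ
  have e : ∀ g ∈ gSix, ∀ h' ∈ H1, Commute (el 12 (wcode 12 g)) (tt * h' * tt) := by
    intro g hg h' hh'
    induction hh' using Subgroup.closure_induction with
    | mem x hx =>
      obtain ⟨g', hg', rfl⟩ := hx
      have eg := evn_wcode hn (List.all_eq_true.1 hG g hg)
      have eg' := evn_wcode hn (List.all_eq_true.1 hG g' hg')
      have i1 := eg'.comp hn eτ
      have i2 := eτ.comp hn i1.1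
      have e := (eg.comp hn i2.1).2
      rw [Nat.eq_of_beq_eq_true (List.all_eq_true.1 (List.all_eq_true.1 hc g hg) g' hg'), (i2.1.comp hn eg).2,
        i2.2, i1.2] at e
      rw [Commute, SemiconjBy, mul_assoc tt]
      exact e.symm
    | one => rw [mul_one, tt_sq]; exact Commute.one_right _
    | mul x y _ _ hx hy => rw [tt_conj_mul]; exact hx.mul_right hy
    | inv x _ hx =>
      have : tt * x⁻¹ * tt = (tt * x * tt)⁻¹ := by
        rw [eq_inv_iff_mul_eq_one, ← tt_conj_mul, inv_mul_cancel, mul_one, tt_sq]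
      rw [this]
      exact hx.inv_right
  induction hh using Subgroup.closure_induction with
  | mem x hx => obtain ⟨g, hg, rfl⟩ := hx; exact e g hg h' hh'
  | one => exact Commute.one_left _
  | mul x y _ _ hx hy => exact hx.mul_left hy
  | inv x _ hx => exact hx.inv_left

theorem el_mem_of_map {n : ℕ} (hn : n ≤ 16) {G L : List (List (ℕ × ℕ))} {W : List (List ℕ)}
    (R : Subgroup (alternatingGroup (Fin n))) (hG : G.all (wordOK n) = true)
    (hR : ∀ g ∈ G, el n (wcode n g) ∈ R) (h : (L.map (wcode n) == W.map (evalW n G)) = true) :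
    ∀ g ∈ L, el n (wcode n g) ∈ R := by
  intro g hg
  have hm : wcode n g ∈ L.map (wcode n) := List.mem_map_of_mem hg
  rw [beq_iff_eq.1 h, List.mem_map] at hm
  obtain ⟨w, -, hw⟩ := hm
  rw [← hw]
  exact (evalW_spec hn (List.all_eq_true.1 hG) R hR w).2

theorem six_mem : ∀ g ∈ gSix, el 12 (wcode 12 g) ∈ H1 := fun g hg => Subgroup.subset_closure ⟨g, hg, rfl⟩

theorem gA_mem : ∀ g ∈ gA, el 12 (wcode 12 g) ∈ H1 := by
  obtain ⟨-, -, hG, -, -, h, -⟩ := data_facts
  exact el_mem_of_map hn H1 hG six_mem h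

theorem sig_mem : ∀ g ∈ sig, el 12 (wcode 12 g) ∈ H1 := by
  obtain ⟨-, -, hG, -, -, -, h, -⟩ := data_facts
  exact el_mem_of_map hn H1 hG six_mem h

theorem key_mem {c : ℕ} (hc : c ∈ keys) : el 12 c ∈ H1 := by
  obtain ⟨-, -, -, hG, -, -, -, -, h⟩ := data_facts
  rw [beq_iff_eq.1 h, List.mem_map] at hc
  obtain ⟨w, -, rfl⟩ := hc
  exact (evalW_spec hn (List.all_eq_true.1 hG) H1 gA_mem w).2

variable {V : Type*} [AddCommGroup V] [inst : DistribMulAction (alternatingGroup (Fin 12)) V]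

theorem tt_tt (u : V) : tt • tt • u = u := by rw [← mul_smul, tt_sq, one_smul]

theorem smul_tt (h : alternatingGroup (Fin 12)) (u : V) : h • tt • u = tt • (tt * h * tt) • u := by
  rw [mul_assoc, mul_smul, mul_smul, tt_tt]

theorem tt_smul (h : alternatingGroup (Fin 12)) (u : V) : tt • h • u = (tt * h * tt) • tt • u := by
  rw [mul_smul, tt_tt, mul_smul]

theorem opApp_el {O : List (ℕ × ℤ)} (x : alternatingGroup (Fin 12)) (h : ∀ q ∈ O, Commute (el 12 q.1) x)
    (u : V) : opApp 12 O (x • u) = x • opApp 12 O u := by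
  induction O with
  | nil => exact (smul_zero _).symm
  | cons q O ih =>
    have e := ih fun r hr => h r (List.mem_cons_of_mem _ hr)
    simp only [opApp, linVal] at e ⊢
    rw [e, smul_add, smul_comm x q.2, ← mul_smul, (h q List.mem_cons_self).eq, mul_smul]

theorem opApp_mem {O : List (ℕ × ℤ)} (W : AddSubgroup V) {u : V} (h : ∀ q ∈ O, el 12 q.1 • u ∈ W) :
    opApp 12 O u ∈ W := by
  induction O with
  | nil => exact W.zero_mem
  | cons q O ih =>
    exact W.add_mem (W.zsmul_mem (h q List.mem_cons_self) q.2) (ih fun r hr => h r (List.mem_cons_of_mem _ hr))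

theorem map_opApp {O : List (ℕ × ℤ)} (F : V →+ V) (h : ∀ q ∈ O, ∀ u, F (el 12 q.1 • u) = el 12 q.1 • F u)
    (u : V) : F (opApp 12 O u) = opApp 12 O (F u) := by
  induction O with
  | nil => exact F.map_zero
  | cons q O ih =>
    have e := ih fun r hr => h r (List.mem_cons_of_mem _ hr)
    simp only [opApp, linVal] at e ⊢
    rw [map_add, map_zsmul, h q List.mem_cons_self, e]

/-- Invariance under the group on the first half. -/
def Inv (M : AddSubgroup V) : Prop := ∀ h ∈ H1, ∀ u ∈ M, h • u ∈ M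

/-- The image under the exchange. -/
noncomputable def sw (M : AddSubgroup V) : AddSubgroup V := M.comap (DistribSMul.toAddMonoidHom V tt)

theorem mem_sw {M : AddSubgroup V} {u : V} : u ∈ sw M ↔ tt • u ∈ M := Iff.rfl

/-- The vectors killed by all the translates of the operator on the second half. -/
noncomputable def killSub (O : List (ℕ × ℤ)) : AddSubgroup V where
  carrier := {u | ∀ h ∈ H1, opApp 12 O (h • tt • u) = 0}
  zero_mem' h _ := by rw [smul_zero, smul_zero, opApp_zero]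
  add_mem' ha hb h hh := by rw [smul_add, smul_add, opApp_add, ha h hh, hb h hh, add_zero]
  neg_mem' ha h hh := by rw [smul_neg, smul_neg, ← zero_sub (h • tt • _), opApp_sub, opApp_zero, ha h hh, sub_zero]

/-- Common eigenvectors. -/
def eigAll (G : List (List (ℕ × ℕ) × ℤ)) : AddSubgroup V where
  carrier := {u | ∀ g ∈ G, el 12 (wcode 12 g.1) • u = g.2 • u}
  zero_mem' g _ := by rw [smul_zero, smul_zero]
  add_mem' ha hb g hg := by rw [smul_add, smul_add, ha g hg, hb g hg]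
  neg_mem' ha g hg := by rw [smul_neg, smul_neg, ha g hg]

/-- The properties of an operator used in the argument. -/
structure OpOK (V : Type*) [AddCommGroup V] [DistribMulAction (alternatingGroup (Fin 12)) V]
    (O : List (ℕ × ℤ)) : Prop where
  mem : ∀ q ∈ O, el 12 q.1 ∈ H1
  comm : ∀ g ∈ gA, ∀ u : V, el 12 (wcode 12 g) • opApp 12 O u = opApp 12 O (el 12 (wcode 12 g) • u)
  idem : ∀ u : V, opApp 12 O (opApp 12 O u) = (60 : ℤ) • opApp 12 O u

theorem opOK_of {O : List (ℕ × ℤ)} (he : Evns 12 O) (h : opFacts O = true) : OpOK V O := by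
  simp only [opFacts, Bool.and_eq_true, List.all_eq_true, List.contains_iff_mem] at h
  have hp : ∀ u : V, (0 : ℤ) • u = 0 := fun u => zero_smul ℤ u
  exact ⟨fun q hq => key_mem (h.2 q hq), fun g hg => opApp_conj hp hn he he (h.1.1 g hg), fun u => by
    rw [← opApp_mul hn he he, opApp_congr hp h.1.2, opApp, linVal_scale]
    rfl⟩

theorem OpOK.other {O : List (ℕ × ℤ)} (hO : OpOK V O) {h : alternatingGroup (Fin 12)} (hh : h ∈ H1) (u : V) :
    opApp 12 O ((tt * h * tt) • u) = (tt * h * tt) • opApp 12 O u :=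
  opApp_el _ (fun q hq => commute_halves (hO.mem q hq) hh) u

/-- Both operators kill nothing simultaneously unless zero. -/
theorem prod_zero {O : List (ℕ × ℤ)} (hO : OpOK V O) {wG pG : List (List (ℕ × ℕ) × ℤ)}
    (hglue : glueOK wG pG = true)
    (find : ∀ W : AddSubgroup V, (∀ g ∈ gA, ∀ u ∈ W, el 12 (wcode 12 g) • u ∈ W) → ∀ v ∈ W,
      opApp 12 O v = (60 : ℤ) • v → v ≠ 0 →
        ∃ v' ∈ W, v' ≠ 0 ∧ ∀ g ∈ wG, el 12 (wcode 12 g.1) • v' = g.2 • v')
    (pz : ∀ v : V, (∀ g ∈ pG, el 12 (wcode 12 g.1) • v = g.2 • v) → opApp 12 O v = (60 : ℤ) • v →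
      opApp 12 O (tt • v) = (60 : ℤ) • tt • v → v = 0) (u : V) :
    opApp 12 O (tt • opApp 12 O u) = 0 := by
  simp only [glueOK, Bool.and_eq_true, List.all_eq_true, List.contains_iff_mem, Bool.or_eq_true,
    List.any_eq_true, beq_iff_eq, Nat.beq_eq] at hglue
  by_contra hw0
  let F : V →+ V := (DistribSMul.toAddMonoidHom V tt).comp ((opHom 12 O).comp (DistribSMul.toAddMonoidHom V tt))
  have hF : ∀ q ∈ O, ∀ w : V, F (el 12 q.1 • w) = el 12 q.1 • F w := by
    intro q hq w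
    show tt • opApp 12 O (tt • el 12 q.1 • w) = el 12 q.1 • tt • opApp 12 O (tt • w)
    rw [tt_smul, hO.other (hO.mem q hq), smul_tt (el 12 q.1)]
  have hFO : ∀ w : V, opApp 12 O (tt • opApp 12 O w) = tt • opApp 12 O (tt • opApp 12 O (tt • w)) := by
    intro w
    have e : tt • opApp 12 O (tt • opApp 12 O w) = opApp 12 O (tt • opApp 12 O (tt • w)) := map_opApp F hF w
    rw [← e, tt_tt]
  set w := opApp 12 O (tt • opApp 12 O u) with hw
  have e1 : opApp 12 O w = (60 : ℤ) • w := hO.idem _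
  have e2 : opApp 12 O (tt • w) = (60 : ℤ) • tt • w := by
    rw [hw, hFO u, tt_tt, hO.idem]
  have i0 : ∀ g ∈ gA, ∀ x ∈ sw (opSub (V := V) 12 O 60) ⊓ opSub 12 O 60,
      el 12 (wcode 12 g) • x ∈ sw (opSub 12 O 60) ⊓ opSub 12 O 60 := by
    rintro g hg x ⟨hx, hx'⟩
    refine ⟨mem_sw.2 (mem_opSub.2 ?_), mem_opSub.2 ?_⟩
    · rw [tt_smul, hO.other (gA_mem g hg), mem_opSub.1 (mem_sw.1 hx), smul_comm]
    · rw [← hO.comm g hg, mem_opSub.1 hx', smul_comm]
  obtain ⟨v1, ⟨hv1, hv1'⟩, hv10, hv1g⟩ :=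
    find _ i0 w ⟨mem_sw.2 (mem_opSub.2 e2), mem_opSub.2 e1⟩ e1 hw0
  set W1 : AddSubgroup V := opSub 12 O 60 ⊓ eigAll wG with hW1
  have i1 : ∀ g ∈ gA, ∀ x ∈ sw W1 ⊓ opSub 12 O 60, el 12 (wcode 12 g) • x ∈ sw W1 ⊓ opSub 12 O 60 := by
    rintro g hg x ⟨hx, hx2⟩
    obtain ⟨hxa, hxb⟩ := mem_sw.1 hx
    refine ⟨mem_sw.2 ⟨mem_opSub.2 ?_, fun k hk => ?_⟩, mem_opSub.2 ?_⟩
    · rw [tt_smul, hO.other (gA_mem g hg), mem_opSub.1 hxa, smul_comm]
    · rw [tt_smul, ← mul_smul, (commute_halves (key_mem (hglue.1 k hk).2) (gA_mem g hg)).eq, mul_smul, hxb k hk,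
        smul_comm]
    · rw [← hO.comm g hg, mem_opSub.1 hx2, smul_comm]
  have hTv1 : tt • v1 ∈ sw W1 ⊓ opSub 12 O 60 := ⟨mem_sw.2 (by rw [tt_tt]; exact ⟨hv1', hv1g⟩), mem_sw.1 hv1⟩
  obtain ⟨v2, ⟨hv2, hv2'⟩, hv20, hv2g⟩ :=
    find _ i1 _ hTv1 (mem_opSub.1 hTv1.2) (fun h => hv10 ((smul_eq_zero_iff_eq _).1 h))
  obtain ⟨ha, hb⟩ := mem_sw.1 hv2
  refine hv20 ((smul_eq_zero_iff_eq tt).1 (pz (tt • v2) (fun g hg => ?_) (mem_opSub.1 ha) ?_))
  · rcases (hglue.2 g hg).2 with hg' | ⟨k, hk, hk2, hkg⟩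
    · exact hb g hg'
    · have eτ := evn_wcode hn data_facts.1
      have ek := (evn_wcode hn (hglue.1 k hk).1).comp hn eτ
      rw [← hkg, (eτ.comp hn ek.1).2, ek.2, mul_smul, mul_smul]
      show tt • el 12 (wcode 12 k.1) • tt • tt • v2 = g.2 • tt • v2
      rw [tt_tt, hv2g k hk, smul_comm, hk2]
  · rw [tt_tt]
    exact mem_opSub.1 hv2'

/-- A smaller pair of invariant subgroups killed by the operator on one side. -/
theorem step {O : List (ℕ × ℤ)} (hO : OpOK V O) (hp : ∀ u : V, opApp 12 O (tt • opApp 12 O u) = 0)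
    {M : AddSubgroup V} (i1 : Inv M) (i2 : Inv (sw M)) {u : V} (hu : u ∈ M) (hu0 : opApp 12 O u ≠ 0) :
    ∃ N : AddSubgroup V, N ≤ M ∧ Inv N ∧ Inv (sw N) ∧ (∃ w ∈ N, w ≠ 0) ∧ ∀ x ∈ sw N, opApp 12 O x = 0 := by
  refine ⟨M ⊓ killSub O, inf_le_left, ?_, ?_, ⟨_, ⟨?_, fun h hh => ?_⟩, hu0⟩, fun x hx => ?_⟩
  · rintro h hh x ⟨hx, hk⟩
    refine ⟨i1 h hh x hx, fun k hkm => ?_⟩
    rw [tt_smul, ← mul_smul k, (commute_halves hkm hh).eq, mul_smul, hO.other hh, hk k hkm, smul_zero]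
  · intro h hh x hx
    obtain ⟨hx1, hk⟩ := mem_sw.1 hx
    refine mem_sw.2 ⟨i2 h hh x hx1, fun k hkm => ?_⟩
    rw [tt_tt, ← mul_smul]
    have := hk (k * h) (mul_mem hkm hh)
    rwa [tt_tt] at this
  · exact opApp_mem _ fun q hq => i1 _ (hO.mem q hq) u hu
  · rw [smul_tt, ← hO.other hh]
    exact hp _
  · obtain ⟨-, hk⟩ := mem_sw.1 hx
    have := hk 1 (one_mem _)
    rwa [one_smul, tt_tt] at this

theorem sum_three (H : Hyp 12 V) (u : V) :
    opApp 12 e3 u + opApp 12 e4 u + opApp 12 e5 u = (60 : ℤ) • u := by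
  have hp : ∀ w : V, (0 : ℤ) • w = 0 := fun w => zero_smul ℤ w
  have h1 : opApp 12 e1 u = 0 := H.noFix hn gA_comm _ fun g hg => by
    have h := List.all_eq_true.1 sum_facts.2 g hg
    simp only [Bool.and_eq_true] at h
    rw [← opApp_lmul hn (evn_wcode hn h.1) e1_evn, opApp_congr hp h.2]
  have h := opApp_congr (n := 12) hp sum_facts.1 u
  simp only [opApp, linVal_append, linVal, (evn_id hn).2, one_smul, add_zero] at h h1 ⊢
  rw [h1, zero_add, ← add_assoc] at h
  exact h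

theorem sig0_mem : sig.getD 0 [] ∈ sig := by decide +kernel

theorem sig4_mem : sig.getD 4 [] ∈ sig := by decide +kernel

theorem moved {O P : List (ℕ × ℤ)} (he : Evns 12 O) (hP : Evns 12 P) {s : List (ℕ × ℕ)} (hs : s ∈ sig)
    (h : conjOK 12 0 s O P = true) {M : AddSubgroup V} (hM : Inv M)
    (hall : ∀ u ∈ M, opApp 12 O u = (60 : ℤ) • u) {w : V} (hw : w ∈ M) : opApp 12 P w = (60 : ℤ) • w := by
  have e := opApp_conj (fun u => zero_smul ℤ u) hn he hP h ((el 12 (wcode 12 s))⁻¹ • w)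
  rw [smul_inv_smul, hall _ (hM _ (inv_mem (sig_mem s hs)) w hw), smul_comm, smul_inv_smul] at e
  exact e.symm

/-- An operator acting as sixty on an invariant subgroup. -/
theorem six_of {O : List (ℕ × ℤ)} {wG : List (List (ℕ × ℕ) × ℤ)}
    (find : ∀ W : AddSubgroup V, (∀ g ∈ gA, ∀ u ∈ W, el 12 (wcode 12 g) • u ∈ W) → ∀ v ∈ W,
      opApp 12 O v = (60 : ℤ) • v → v ≠ 0 →
        ∃ v' ∈ W, v' ≠ 0 ∧ ∀ g ∈ wG, el 12 (wcode 12 g.1) • v' = g.2 • v')
    {M : AddSubgroup V} (hM : Inv M) (hall : ∀ u ∈ M, opApp 12 O u = (60 : ℤ) • u)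
    (six : ∀ v ∈ M, (∀ g ∈ wG, el 12 (wcode 12 g.1) • v = g.2 • v) → v = 0) : ∀ u ∈ M, u = 0 := by
  intro u hu
  by_contra hu0
  obtain ⟨v, hv, hv0, hvg⟩ := find M (fun g hg => hM _ (gA_mem g hg)) u hu (hall u hu) hu0
  exact hv0 (six v hv hvg)

/-- Two of the operators cannot vanish on a nonzero invariant subgroup. -/
def SixKill (V : Type*) [AddCommGroup V] [DistribMulAction (alternatingGroup (Fin 12)) V]
    (P Q : List (ℕ × ℤ)) : Prop :=
  ∀ M : AddSubgroup V, Inv M → (∀ u ∈ M, opApp 12 P u = 0) → (∀ u ∈ M, opApp 12 Q u = 0) → ∀ u ∈ M, u = 0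

theorem six3 (H : Hyp 12 V) (h60 : ∀ u : V, (60 : ℤ) • u = 0 → u = 0) : SixKill V e4 e5 := by
  intro M hM h4 h5
  have hall : ∀ u ∈ M, opApp 12 e3 u = (60 : ℤ) • u := fun u hu => by
    have := sum_three H u
    rwa [h4 u hu, h5 u hu, add_zero, add_zero] at this
  exact six_of (fun W hW v hv ho => e3x_find h60 W hW v hv ho) hM hall fun v hv hg =>
    e3w_zero H h60 v hg (moved e3_evn e3s0_evn sig0_mem e3_facts.2.2 hM hall hv)

theorem six4 (H : Hyp 12 V) (h60 : ∀ u : V, (60 : ℤ) • u = 0 → u = 0) : SixKill V e3 e5 := by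
  intro M hM h3 h5
  have hall : ∀ u ∈ M, opApp 12 e4 u = (60 : ℤ) • u := fun u hu => by
    have := sum_three H u
    rwa [h3 u hu, h5 u hu, zero_add, add_zero] at this
  exact six_of (fun W hW v hv ho => e4x_find h60 W hW v hv ho) hM hall fun v hv hg =>
    e4w_zero H h60 v hg (moved e4_evn e4s0_evn sig0_mem e4_facts.2.2.1 hM hall hv)
      (moved e4_evn e4s4_evn sig4_mem e4_facts.2.2.2.1 hM hall hv) (hall v hv)

theorem six5 (H : Hyp 12 V) (h60 : ∀ u : V, (60 : ℤ) • u = 0 → u = 0) : SixKill V e3 e4 := by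
  intro M hM h3 h4
  have hall : ∀ u ∈ M, opApp 12 e5 u = (60 : ℤ) • u := fun u hu => by
    have := sum_three H u
    rwa [h3 u hu, h4 u hu, zero_add, zero_add] at this
  exact six_of (fun W hW v hv ho => e5x_find h60 W hW v hv ho) hM hall fun v hv hg =>
    e5w_zero H h60 v hg (moved e5_evn e5s0_evn sig0_mem e5_facts.2.2.1 hM hall hv) (hall v hv)

theorem q_scalar {O P : List (ℕ × ℤ)} (hO : Evns 12 O) (hP : Evns 12 P) (h : conjOK 12 0 tau P O = true) {v : V}
    (hv : opApp 12 O (tt • v) = (60 : ℤ) • tt • v) : opApp 12 P v = (60 : ℤ) • v := by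
  have e := opApp_conj (fun u => zero_smul ℤ u) hn hP hO h v
  change tt • opApp 12 P v = opApp 12 O (tt • v) at e
  rw [hv, smul_comm] at e
  exact smul_left_cancel _ e

theorem three_steps {O P Q : List (ℕ × ℤ)} (okO : OpOK V O) (okP : OpOK V P) (okQ : OpOK V Q)
    (pO : ∀ u : V, opApp 12 O (tt • opApp 12 O u) = 0) (pP : ∀ u : V, opApp 12 P (tt • opApp 12 P u) = 0)
    (pQ : ∀ u : V, opApp 12 Q (tt • opApp 12 Q u) = 0)
    (sQ : SixKill V O P) (sO : SixKill V P Q) (sP : SixKill V O Q) (u : V) : opApp 12 O u = 0 := by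
  by_contra hu0
  have itop : Inv (⊤ : AddSubgroup V) := fun _ _ _ _ => trivial
  obtain ⟨N1, -, a1, b1, ⟨w1, hw1, hw10⟩, k1⟩ := step okO pO itop (fun _ _ _ _ => trivial) (u := u) trivial hu0
  have d1 : Inv (sw (sw N1)) := fun h hh x hx => by
    rw [mem_sw, mem_sw, tt_tt] at hx ⊢
    exact a1 h hh x hx
  obtain ⟨x, hx, hx0⟩ : ∃ x ∈ sw N1, opApp 12 P x ≠ 0 := by
    by_contra hno
    push Not at hno
    exact hw10 ((smul_eq_zero_iff_eq tt).1 (sQ _ b1 k1 hno _ (mem_sw.2 (by rwa [tt_tt]))))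
  obtain ⟨N2, le2, a2, b2, ⟨w2, hw2, hw20⟩, k2⟩ := step okP pP b1 d1 hx hx0
  have d2 : Inv (sw (sw N2)) := fun h hh x hx => by
    rw [mem_sw, mem_sw, tt_tt] at hx ⊢
    exact a2 h hh x hx
  obtain ⟨y, hy, hy0⟩ : ∃ y ∈ sw N2, opApp 12 Q y ≠ 0 := by
    by_contra hno
    push Not at hno
    exact hw20 ((smul_eq_zero_iff_eq tt).1 (sO _ b2 k2 hno _ (mem_sw.2 (by rwa [tt_tt]))))
  obtain ⟨N3, le3, -, b3, ⟨w3, hw3, hw30⟩, k3⟩ := step okQ pQ b2 d2 hy hy0
  have kO : ∀ z ∈ sw N3, opApp 12 O z = 0 := fun z hz => k1 z (le2 (by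
    have := mem_sw.1 (le3 (mem_sw.1 hz))
    rwa [tt_tt] at this))
  exact hw30 ((smul_eq_zero_iff_eq tt).1 (sP _ b3 kO k3 _ (mem_sw.2 (by rwa [tt_tt]))))

/-- The key statement away from two, three and five. -/
theorem key_seven (H : Hyp 12 V) (h60 : ∀ u : V, (60 : ℤ) • u = 0 → u = 0) (x : V) : x = 0 := by
  have o3 : OpOK V e3 := opOK_of e3_evn e3_facts.1
  have o4 : OpOK V e4 := opOK_of e4_evn e4_facts.1
  have o5 : OpOK V e5 := opOK_of e5_evn e5_facts.1
  have p3 := prod_zero o3 e3_facts.2.1 (fun W hW v hv ho => e3x_find h60 W hW v hv ho)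
    (fun v hv _ _ => e3p_zero H h60 v hv)
  have p4 := prod_zero o4 e4_facts.2.1 (fun W hW v hv ho => e4x_find h60 W hW v hv ho)
    (fun v hv _ hq => e4p_zero H h60 v hv (q_scalar e4_evn e4q_evn e4_facts.2.2.2.2 hq))
  have p5 := prod_zero o5 e5_facts.2.1 (fun W hW v hv ho => e5x_find h60 W hW v hv ho)
    (fun v hv he hq => e5p_zero H h60 v hv he (q_scalar e5_evn e5q_evn e5_facts.2.2.2 hq))
  have s54 : SixKill V e5 e4 := fun M i a b => six3 H h60 M i b a
  have s53 : SixKill V e5 e3 := fun M i a b => six4 H h60 M i b a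
  have s43 : SixKill V e4 e3 := fun M i a b => six5 H h60 M i b a
  have z3 := three_steps o3 o4 o5 p3 p4 p5 (six5 H h60) (six3 H h60) (six4 H h60) x
  have z4 := three_steps o4 o3 o5 p4 p3 p5 s43 (six4 H h60) (six3 H h60) x
  have z5 := three_steps o5 o3 o4 p5 p3 p4 s53 (six5 H h60) s54 x
  refine h60 x ?_
  rw [← sum_three H x, z3, z4, z5, add_zero, add_zero]

end Cfsg.Agent.Solv.AltSec.Seven
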